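import Cfsg.Agent.Omega.NO3b.ZP.Alpha
import Cfsg.Agent.Omega.NO3b.Exit.Bridge

/-!
# RBz, Z'-port: `Bridge.Sit` from the panels of `ZP/Alpha.lean` (#22471)

`sit_of_fl` : `Exit/Bridge.lean`, `Sit.of_fl`, for `ZP.Fl`, `ZP.Par`.
-/

set_option autoImplicit false

namespace Cfsg.Agent.Omega.NO3b.ZP

open Subgroup Cfsg
open Cfsg.Agent.Omega.NO3b.Exit.Bridge (Sit)

universe u

variable {G : Type u} [Group G] [Finite G] {Z F T X : Subgroup G}

/-- `Bridge.Sit` from the panels of `ZP/Alpha.lean` -/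
theorem sit_of_fl {S : Sylow 2 G} {J V U : Subgroup G} (l : LinesZ S Z J V)
    (f : Fl S V F T) (p : Par S V F T X) (cm : U ≤ centralizer (U : Set G)) (sq : ∀ u ∈ U, u ^ 2 = 1) (VU : V ≤ U)
    (XU : X ≤ normalizer (U : Set G)) : Sit V F T X U where
  cm := cm
  sq := sq
  VU := VU
  XU := XU
  nff := l.nff
  FV := f.le
  XF := p.le
  syl := f.sylX p
  mp := f.isMinPar l p
  TV := f.T_le.trans l.S_le
  nle := p.nle
  min := p.min
  ti := fun _ hx hn => (f.line l (le_inf p.le p.cz hx) hn).le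

end Cfsg.Agent.Omega.NO3b.ZP
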