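import Cfsg.Agent.Omega.NO3b.Exit.BlkTwo

/-!
# The blocks of `V` in LOC without (PR): `PF.exists_ff` for a subgroup `W` of `V` moved by `S ∩ YM`

`Exit/BlkTwo.lean` with `V_P` replaced by a subgroup `W ≤ V` (port of NotFF to a seed `Z < Ω₁(Z(S))`, where
`C_{V(L)}(S)` need not lie in `⟨Z^P⟩`).

* `PF.exists_move_of`, **`PF.exists_ff_of`**.
-/

set_option autoImplicit false

open scoped Pointwise

namespace Cfsg.Agent.Omega.NO3b.Exit.BlkZ

open Subgroup Cfsg.Agent.Omega.NO3b.Exit Ten Descent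
open Cfsg.Agent.Omega.NO3b.Exit.TBlk hiding Blk

universe u v

namespace PF

variable {H : Type u} {U : Type v} [Group H] [Finite H] [AddCommGroup U] [DistribMulAction H U] [Finite U]
variable {Y Q BB : Subgroup H} {V F L C : AddSubgroup U} {h : H} {M KV S O : Subgroup H} {VP : AddSubgroup U}
variable {B : Blk0 Y Q BB V F L C h M KV S} (P : PF B O VP)
include P

/-- some component of some `v ∈ W` is moved by `S ∩ m Y m⁻¹` -/
theorem exists_move_of {W : AddSubgroup U} (hWV : W ≤ V) (hW : ∃ s ∈ S, s ∈ B.YM ∧ ∃ v ∈ W, s • v ≠ v) :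
    ∃ m ∈ M, ∃ v ∈ W, ∃ a ∈ m • V1 B.dat, ∃ b ∈ B.rest m, v = a + b ∧
    ∃ s ∈ S, m⁻¹ * s * m ∈ Y ∧ s • a ≠ a := by
  by_contra hcon
  push Not at hcon
  obtain ⟨s, hs, hsY, v, hv, hne⟩ := hW
  apply hne
  rw [← sub_eq_zero]
  have hvV := hWV hv
  refine P.inf_rest (sub_mem (B.mV s (B.SM hs) v hvV) hvV) fun m hm => ?_
  obtain ⟨a, ha, b, hb, e⟩ := P.exists_add m hvV
  obtain ⟨z, hz, hzS, hzr⟩ := B.exists_comp hm
  obtain ⟨z1, hz1, z2, hz2, ez⟩ := B.mem_all (B.orbS_le_all hm hz) m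
  have hz10 : z1 ≠ 0 := by
    rintro rfl
    rw [zero_add] at ez
    exact hzr (ez ▸ hz2)
  have hsK := B.YM_le hsY
  have h1 : (op U s - 1) a = 0 := by
    refine B.ann_comp' hm hz1 hz10 (fun t ht htY => B.comp_fix hm hz1 hz2 ez (hzS t ht) (B.YM_le (B.mem_YM_of hm htY)))
      ha (fun t ht htY => hcon m hm v hv a ha b hb e t ht htY)
      (c := op U s - 1) (sub_mem (op_mem hsK) (one_mem' KV)) ?_
    change s • z1 - z1 = 0
    rw [sub_eq_zero]
    exact B.comp_fix hm hz1 hz2 ez (hzS s hs) hsK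
  change s • a - a = 0 at h1
  rw [e]
  have e2 : s • (a + b) - (a + b) = (s • a - a) + (s • b - b) := by rw [smul_add]; abel
  rw [e2, h1, zero_add]
  exact sub_mem (B.rest_K hm hsK hb) hb

/-- **If `W` is generated by one element of `C_V(S)` as an `O²(P)`-module and moved by `S ∩ YM`, then `W` is FF.** -/
theorem exists_ff_of {VP' : AddSubgroup U} (hWV : VP' ≤ V) (hW : ∃ s ∈ S, s ∈ B.YM ∧ ∃ v ∈ VP', s • v ≠ v)
    {z : U} (hzV : z ∈ V) (hz0 : z ≠ 0) (hzS : ∀ s ∈ S, s • z = z)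
    (hgen : ∀ v ∈ VP', ∃ c ∈ ring U O, c z = v) :
    ∃ (Θ : Subgroup H) (X1 X2 : Type u) (_ : Finite X1) (_ : Finite X2) (γ : U → X1) (δ : H → X2),
      Nat.card X1 ≤ Nat.card X2 ∧ Θ ≤ S ∧ (∃ θ ∈ Θ, ∃ v ∈ VP', θ • v ≠ v) ∧
      (∀ a ∈ Θ, ∀ v ∈ VP', (a * a) • v = v) ∧ (∀ a ∈ Θ, ∀ b ∈ Θ, ∀ v ∈ VP', (a * b * a⁻¹ * b⁻¹) • v = v) ∧
      (∀ v ∈ VP', ∀ v' ∈ VP', γ v = γ v' → ∀ θ ∈ Θ, θ • (v - v') = v - v') ∧ (∀ x, ∃ θ ∈ Θ, δ θ = x) ∧
      (∀ θ ∈ Θ, ∀ θ' ∈ Θ, (∀ v ∈ VP', θ • v = θ' • v) → δ θ = δ θ') := by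
  classical
  obtain ⟨m, hm, v1, hv1, a1, ha1, b1, hb1, e1, s1, hs1, hs1Y, hs1a⟩ := P.exists_move_of hWV hW
  have D := B.dat
  let T : Subgroup Y := (S.map (MulAut.conj m⁻¹).toMonoidHom).subgroupOf Y
  have hT2 : IsPGroup 2 T := (B.S2.map _).comap_of_injective _ (subtype_injective Y)
  have hTo : ¬ 2 ∣ T.index := B.odd_T hm
  obtain ⟨n, -, hn0, hn⟩ := exists_fix (V := AM B.dat) (H := Y) hT2 B.dat.AM_two (A := ⊤)
    (fun _ _ _ _ => trivial) (by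
      intro h
      obtain ⟨a, ha⟩ := (B.dat.isIrr).ne
      have : a ∈ (⊤ : AddSubgroup (AM B.dat)) := trivial
      rw [h] at this
      exact ha this)
  -- the component of `z`
  obtain ⟨z1, hz1, z2, hz2, ez⟩ := P.exists_add m hzV
  have hz10 : z1 ≠ 0 := by
    rintro rfl
    rw [zero_add] at ez
    exact P.comp_ne hz0 hzV hzS hm (ez ▸ hz2)
  have hmem : ∀ v ∈ m • V1 B.dat, m⁻¹ • v ∈ V1 B.dat := fun v hv =>
    AddSubgroup.mem_pointwise_smul_iff_inv_smul_mem.1 hv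
  obtain ⟨f, hf⟩ := exists_of_fix (allTv B.dat) B.dat.AM_two hTo hn0 hn (V1_le_img B.dat (hmem z1 hz1))
    (fun t ht => Blk0.smul_T (fun s hs hsY => B.comp_fix hm hz1 hz2 ez (hzS s hs) (B.YM_le (B.mem_YM_of hm hsY))) t
      (mem_subgroupOf.1 ht) t.2)
  have hf0 : f ≠ 0 := by
    rintro rfl
    apply hz10
    rw [← smul_inv_smul m z1, hf]
    exact smul_zero m
  -- components of elements of `VP'`
  have hfm : ∀ w : AM B.dat, m • (f : AM B.dat →+ U) w ∈ m • V1 B.dat := fun w =>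
    AddSubgroup.smul_mem_pointwise_smul _ _ _ (B.hom_mem f w)
  have hcomp : ∀ v ∈ VP', ∃ w : AM B.dat, ∃ b ∈ B.rest m, v = m • (f : AM B.dat →+ U) w + b := by
    intro v hv
    obtain ⟨c, hc, rfl⟩ := hgen v hv
    have hcK : c ∈ ring U KV := by
      have h1 : ring U O ≤ ring U KV := AddSubgroup.closure_mono (by
        rintro _ ⟨x, hx, rfl⟩
        exact ⟨x, B.YM_le (P.O_le hx), rfl⟩)
      exact h1 hc
    have hcm : op U m⁻¹ * c * op U m⁻¹⁻¹ ∈ ring U KV :=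
      Descent.conj_mem (fun x hx => B.nK _ (inv_mem hm) x hx) hcK
    obtain ⟨c', hc'⟩ := B.exists_ringK hcm
    refine ⟨c' n, c z2, apply_mem (fun x hx v hv => B.rest_K hm hx hv) hz2 hcK, ?_⟩
    have h2 : (op U m⁻¹ * c * op U m⁻¹⁻¹) (m⁻¹ • z1) = m⁻¹ • c z1 := by
      change m⁻¹ • c (m⁻¹⁻¹ • m⁻¹ • z1) = _
      rw [inv_inv, smul_inv_smul]
    rw [hf, hc'] at h2
    rw [h2, smul_inv_smul, ← map_add, ← ez]
  let ω : U → AM B.dat := fun v => if hv : v ∈ VP' then (hcomp v hv).choose else 0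
  have hω : ∀ v ∈ VP', ∃ b ∈ B.rest m, v = m • (f : AM B.dat →+ U) (ω v) + b := by
    intro v hv
    have e : ω v = (hcomp v hv).choose := dif_pos hv
    rw [e]
    exact (hcomp v hv).choose_spec
  have huniq : ∀ w w' : AM B.dat, ∀ b ∈ B.rest m, ∀ b' ∈ B.rest m,
      m • (f : AM B.dat →+ U) w + b = m • (f : AM B.dat →+ U) w' + b' → w = w' := by
    intro w w' b hb b' hb' e
    have h1 : m • (f : AM B.dat →+ U) w - m • (f : AM B.dat →+ U) w' ∈ m • V1 B.dat ⊓ B.rest m := by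
      refine AddSubgroup.mem_inf.2 ⟨sub_mem (hfm w) (hfm w'), ?_⟩
      have e2 : m • (f : AM B.dat →+ U) w - m • (f : AM B.dat →+ U) w' = b' - b := by
        rw [sub_eq_sub_iff_add_eq_add, e, add_comm]
      rw [e2]
      exact sub_mem hb' hb
    rw [B.indep hm, AddSubgroup.mem_bot, sub_eq_zero] at h1
    exact HomY.inj hf0 (smul_left_cancel m h1)
  -- the action of `m Y m⁻¹`
  have hact : ∀ (y : Y) (w : AM B.dat) (b : U), b ∈ B.rest m →
      (m * (y : H) * m⁻¹) • (m • (f : AM B.dat →+ U) w + b) = m • (f : AM B.dat →+ U) (y • w) + b := by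
    intro y w b hb
    have e2 : (f : AM B.dat →+ U) (y • w) = (y : H) • (f : AM B.dat →+ U) w := f.2 y w
    rw [smul_add, B.cent_rest hm y.2 hb, smul_smul, inv_mul_cancel_right, mul_smul, e2]
  let Θ : Subgroup H := ((T ⊓ tvc Y n).map Y.subtype).map (MulAut.conj m).toMonoidHom
  have hΘ : ∀ θ ∈ Θ, ∃ y : Y, y ∈ T ∧ (∃ φ : Module.Dual (KK Y (AM B.dat)) (AM B.dat), φ n = 0 ∧
      ∀ x, y • x = x + φ x • n) ∧ θ = m * (y : H) * m⁻¹ := by
    rintro _ ⟨_, ⟨y, ⟨hyT, hy⟩, rfl⟩, rfl⟩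
    exact ⟨y, hyT, hy, rfl⟩
  -- `θ v = v + m f(κ n)`
  have hmv : ∀ θ ∈ Θ, ∃ φ : Module.Dual (KK Y (AM B.dat)) (AM B.dat), φ n = 0 ∧ (∀ v ∈ VP',
      θ • v = v + m • (f : AM B.dat →+ U) (φ (ω v) • n)) ∧ ∀ κ : KK Y (AM B.dat),
      θ • m • (f : AM B.dat →+ U) (κ • n) = m • (f : AM B.dat →+ U) (κ • n) := by
    intro θ hθ
    obtain ⟨y, -, ⟨φ, hφ, hy⟩, rfl⟩ := hΘ θ hθ
    refine ⟨φ, hφ, fun v hv => ?_, fun κ => ?_⟩
    · obtain ⟨b, hb, e⟩ := hω v hv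
      have h1 := hact y (ω v) b hb
      rw [← e, hy, map_add, smul_add] at h1
      rw [h1]
      calc m • (f : AM B.dat →+ U) (ω v) + m • (f : AM B.dat →+ U) (φ (ω v) • n) + b
          = (m • (f : AM B.dat →+ U) (ω v) + b) + m • (f : AM B.dat →+ U) (φ (ω v) • n) := by abel
        _ = v + m • (f : AM B.dat →+ U) (φ (ω v) • n) := by rw [← e]
    · have h1 := hact y (κ • n) 0 (zero_mem _)
      have h2 : y • (κ • n) = κ • n := by
        rw [hy, φ.map_smul, hφ, smul_zero, zero_smul, add_zero]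
      rw [add_zero, add_zero, h2] at h1
      exact h1
  let K := KK Y (AM B.dat)
  let N : Submodule K (AM B.dat) := Submodule.span K {n}
  let W : Submodule K (AM B.dat ⧸ N) := Submodule.span K {x | ∃ v ∈ VP', x = N.mkQ (ω v)}
  have hWm : ∀ v ∈ VP', N.mkQ (ω v) ∈ W := fun v hv => Submodule.subset_span ⟨v, hv, rfl⟩
  let γ : U → W := fun v => if hv : v ∈ VP' then ⟨N.mkQ (ω v), hWm v hv⟩ else 0
  have hγ : ∀ v (hv : v ∈ VP'), γ v = ⟨N.mkQ (ω v), hWm v hv⟩ := fun v hv => dif_pos hv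
  let Rel : H → Module.Dual K W → Prop := fun θ ψ => ∀ v (hv : v ∈ VP'),
    θ • v = v + m • (f : AM B.dat →+ U) (ψ ⟨N.mkQ (ω v), hWm v hv⟩ • n)
  have hRel : ∀ θ ψ θ' ψ', Rel θ ψ → Rel θ' ψ' → (∀ v ∈ VP', θ • v = θ' • v) → ψ = ψ' := by
    intro θ ψ θ' ψ' h1 h2 h3
    have h4 : ∀ v (hv : v ∈ VP'), ψ ⟨N.mkQ (ω v), hWm v hv⟩ = ψ' ⟨N.mkQ (ω v), hWm v hv⟩ := by
      intro v hv
      have h5 := h3 v hv
      rw [h1 v hv, h2 v hv] at h5
      have h6 := HomY.inj hf0 (smul_left_cancel m (add_left_cancel h5))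
      exact smul_left_injective K hn0 h6
    refine LinearMap.ext fun ⟨x, hx⟩ => ?_
    induction hx using Submodule.span_induction with
    | mem x hx =>
      obtain ⟨v, hv, rfl⟩ := hx
      exact h4 v hv
    | zero => exact (map_zero ψ).trans (map_zero ψ').symm
    | add x y hx hy ihx ihy =>
      have e2 : (⟨x + y, add_mem hx hy⟩ : W) = ⟨x, hx⟩ + ⟨y, hy⟩ := rfl
      rw [e2, map_add, map_add, ihx, ihy]
    | smul κ x hx ih =>
      have e2 : (⟨κ • x, Submodule.smul_mem _ κ hx⟩ : W) = κ • ⟨x, hx⟩ := rfl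
      rw [e2, map_smul, map_smul, ih]
  let δ : H → Module.Dual K W := fun θ => if hψ : ∃ ψ, Rel θ ψ then hψ.choose else 0
  have hδ : ∀ θ ψ, Rel θ ψ → δ θ = ψ := by
    intro θ ψ h1
    have h2 : ∃ ψ, Rel θ ψ := ⟨ψ, h1⟩
    have e : δ θ = h2.choose := dif_pos h2
    rw [e]
    exact hRel θ _ θ _ h2.choose_spec h1 fun _ _ => rfl
  have hex : ∀ θ ∈ Θ, ∃ ψ, Rel θ ψ := by
    intro θ hθ
    obtain ⟨φ, hφ, h1, -⟩ := hmv θ hθ
    have hN : N ≤ LinearMap.ker φ := by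
      rw [Submodule.span_singleton_le_iff_mem]
      exact hφ
    refine ⟨(N.liftQ φ hN).comp W.subtype, fun v hv => ?_⟩
    rw [h1 v hv]
    rfl
  have hfinQ : Finite (AM B.dat ⧸ N) := Finite.of_surjective _ (Submodule.mkQ_surjective N)
  have hfinW : Finite W := Finite.of_injective (fun x : W => (x : AM B.dat ⧸ N)) Subtype.val_injective
  have hfinD : Finite (Module.Dual K W) := Finite.of_injective (fun φ : Module.Dual K W => (φ : W → K))
    DFunLike.coe_injective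
  refine ⟨Θ, W, Module.Dual K W, hfinW, hfinD, γ, δ, ?_, ?_, ?_, ?_, ?_, ?_, ?_, ?_⟩
  · -- cardinalities
    have h1 : Module.Finite K W := Module.Finite.of_finite
    rw [Module.natCard_eq_pow_finrank (K := K) (V := W), Module.natCard_eq_pow_finrank (K := K) (V := Module.Dual K W),
      Subspace.dual_finrank_eq]
  · intro θ hθ
    obtain ⟨y, hyT, -, rfl⟩ := hΘ θ hθ
    obtain ⟨s, hs, e⟩ := mem_subgroupOf.1 hyT
    have e2 : m * (y : H) * m⁻¹ = s := by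
      rw [← e]
      change m * (m⁻¹ * s * m⁻¹⁻¹) * m⁻¹ = s
      group
    rw [e2]
    exact hs
  · -- `Θ` moves `VP'`
    by_contra hcon
    push Not at hcon
    apply hs1a
    obtain ⟨b, hb, e⟩ := hω v1 hv1
    have h1 : ω v1 ∈ N := by
      by_contra hnot
      obtain ⟨φ, hφ1, hφ2⟩ := Submodule.exists_dual_map_eq_bot_of_notMem hnot inferInstance
      have hφn : φ n = 0 := by
        have h : φ n ∈ N.map φ := ⟨n, Submodule.mem_span_singleton_self n, rfl⟩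
        rw [hφ2, Submodule.mem_bot] at h
        exact h
      obtain ⟨t, ht, hty⟩ := exists_T (allTv B.dat) B.dat.AM_two hT2 hTo hn hφn
      have hθ : m * (t : H) * m⁻¹ ∈ Θ := ⟨t, ⟨t, ⟨ht, φ, hφn, hty⟩, rfl⟩, rfl⟩
      have h2 := hcon _ hθ v1 hv1
      rw [e, hact t _ b hb, hty] at h2
      have h3 := huniq _ _ b hb b hb h2
      have h4 : φ (ω v1) • n = 0 := add_eq_left.1 h3
      rcases smul_eq_zero.1 h4 with h5 | h5
      · exact hφ1 h5
      · exact hn0 h5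
    obtain ⟨κ, hκ⟩ := Submodule.mem_span_singleton.1 h1
    have e3 : a1 = m • (f : AM B.dat →+ U) (ω v1) := by
      have h2 : a1 - m • (f : AM B.dat →+ U) (ω v1) ∈ m • V1 B.dat ⊓ B.rest m := by
        refine AddSubgroup.mem_inf.2 ⟨sub_mem ha1 (hfm _), ?_⟩
        have e2 : a1 - m • (f : AM B.dat →+ U) (ω v1) = b - b1 := by
          rw [sub_eq_sub_iff_add_eq_add, ← e1, add_comm, ← e]
        rw [e2]
        exact sub_mem hb hb1
      rw [B.indep hm, AddSubgroup.mem_bot, sub_eq_zero] at h2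
      exact h2
    have h2 : (⟨m⁻¹ * s1 * m, hs1Y⟩ : Y) ∈ T := by
      refine mem_subgroupOf.2 ⟨s1, hs1, ?_⟩
      change m⁻¹ * s1 * m⁻¹⁻¹ = m⁻¹ * s1 * m
      rw [inv_inv]
    have h3 := hact ⟨m⁻¹ * s1 * m, hs1Y⟩ (ω v1) 0 (zero_mem _)
    rw [add_zero, add_zero, ← hκ, ← KK.smul_smul_comm, hn _ h2, hκ, ← e3] at h3
    have e4 : m * (m⁻¹ * s1 * m) * m⁻¹ = s1 := by group
    change (m * (m⁻¹ * s1 * m) * m⁻¹) • a1 = a1 at h3
    rwa [e4] at h3
  · intro a ha v hv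
    obtain ⟨φ, -, h1, h2⟩ := hmv a ha
    rw [mul_smul, h1 v hv, smul_add, h1 v hv, h2, add_assoc, B.dat.two, add_zero]
  · intro a ha b hb v hv
    obtain ⟨φ, -, h1, h2⟩ := hmv a ha
    obtain ⟨ψ, -, h3, h4⟩ := hmv b hb
    have hai : a⁻¹ • v = v + m • (f : AM B.dat →+ U) (φ (ω v) • n) := by
      rw [inv_smul_eq_iff, smul_add, h1 v hv, h2, add_assoc, B.dat.two, add_zero]
    have hbi : b⁻¹ • v = v + m • (f : AM B.dat →+ U) (ψ (ω v) • n) := by
      rw [inv_smul_eq_iff, smul_add, h3 v hv, h4, add_assoc, B.dat.two, add_zero]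
    set x := m • (f : AM B.dat →+ U) (φ (ω v) • n) with hx
    set y := m • (f : AM B.dat →+ U) (ψ (ω v) • n) with hy
    have hay : a • y = y := h2 _
    have hax : a • x = x := h2 _
    have hbx : b • x = x := h4 _
    have hby : b • y = y := h4 _
    have haiy : a⁻¹ • y = y := by rw [inv_smul_eq_iff, hay]
    have e1 : (a * b * a⁻¹ * b⁻¹) • v = a • b • a⁻¹ • b⁻¹ • v := by simp only [mul_smul]
    rw [e1, hbi, smul_add a⁻¹, hai, haiy, smul_add b, smul_add b, h3 v hv, hbx, hby, ← hy, smul_add a, smul_add a,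
      smul_add a, h1 v hv, hax, hay, ← hx]
    have e2 : v + x + y + x + y = v + (x + x) + (y + y) := by abel
    rw [e2, B.dat.two, B.dat.two, add_zero, add_zero]
  · intro v hv v' hv' hγe θ hθ
    rw [hγ v hv, hγ v' hv'] at hγe
    have h1 : N.mkQ (ω v) = N.mkQ (ω v') := congrArg Subtype.val hγe
    have h2 : ω v - ω v' ∈ N := (Submodule.Quotient.eq N).1 h1
    obtain ⟨κ, hκ⟩ := Submodule.mem_span_singleton.1 h2
    obtain ⟨φ, hφ, h3, -⟩ := hmv θ hθ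
    have h4 : φ (ω v) = φ (ω v') := by
      rw [← sub_eq_zero, ← map_sub, ← hκ, map_smul, hφ, smul_zero]
    rw [smul_sub, h3 v hv, h3 v' hv', h4]
    abel
  · intro ψ
    obtain ⟨ψ', hψ'⟩ := LinearMap.exists_extend ψ
    have hφn : (ψ'.comp N.mkQ) n = 0 := by
      have h1 : N.mkQ n = 0 := (Submodule.Quotient.mk_eq_zero N).2 (Submodule.mem_span_singleton_self n)
      rw [LinearMap.comp_apply, h1, map_zero]
    obtain ⟨t, ht, hty⟩ := exists_T (allTv B.dat) B.dat.AM_two hT2 hTo hn hφn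
    have hθ : m * (t : H) * m⁻¹ ∈ Θ := ⟨t, ⟨t, ⟨ht, _, hφn, hty⟩, rfl⟩, rfl⟩
    refine ⟨_, hθ, hδ _ _ fun v hv => ?_⟩
    obtain ⟨b, hb, e⟩ := hω v hv
    have h5 : ψ ⟨N.mkQ (ω v), hWm v hv⟩ = (ψ'.comp N.mkQ) (ω v) := by
      rw [← hψ']
      rfl
    have h6 := hact t (ω v) b hb
    rw [← e, hty, map_add, smul_add] at h6
    rw [h5, h6]
    calc m • (f : AM B.dat →+ U) (ω v) + m • (f : AM B.dat →+ U) ((ψ'.comp N.mkQ) (ω v) • n) + b
        = (m • (f : AM B.dat →+ U) (ω v) + b) + m • (f : AM B.dat →+ U) ((ψ'.comp N.mkQ) (ω v) • n) := by abel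
      _ = v + m • (f : AM B.dat →+ U) ((ψ'.comp N.mkQ) (ω v) • n) := by rw [← e]
  · intro θ hθ θ' hθ' h1
    obtain ⟨ψ, hψ⟩ := hex θ hθ
    obtain ⟨ψ', hψ'⟩ := hex θ' hθ'
    rw [hδ θ ψ hψ, hδ θ' ψ' hψ']
    exact hRel θ ψ θ' ψ' hψ hψ' h1

end PF

end Cfsg.Agent.Omega.NO3b.Exit.BlkZ
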