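import Cfsg.Agent.Omega.NO3b.ZP.Alt
import Cfsg.Agent.Omega.NO3b.ZP.AlphaEnd
import Cfsg.Agent.Omega.NO3b.Chain.Frame

/-!
# RBz, Z'-port: the chain frame with a seed `Z ≤ Ω₁(Z(S))` (#22471; helper235's `Chain/Frame.lean`)

`S` a Sylow 2-subgroup, `1 ≠ Z ≤ Ω₁(Z(S))`, `W(L) = WH S Z L`, `M(L) = ML S Z L`, `V(L) = VL S Z L = ⟨Z^{M(L)}⟩`
(`ZP/Frame.lean`).

* `Stage S Z L` : `Root S Z L` and `⟨Z^L⟩ ≤ O₂(C_G(Z))`; `Stage.lines`;
* `Step S Z L F T X` : a panel `(F, T, X)` of `V(L)`, `Z ≤ F`, such that `L' = ⟨M(L), X⟩` is local, `⟨Z^{L'}⟩` is not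
  FF and lies in `O₂(C_G(Z))`; `nx S Z L X` is `L'`; `Step.next` : `Stage S Z L'`; `Step.lt` : `V(L) < V(L')`;
* `Reach S Z P L` : `L` is reached from `P`; `Reach.stage`, `Reach.le`, `Reach.ML_le`;
* `exists_last` : some `L` reached from `P` has no step; `last_or`.
-/

set_option autoImplicit false
set_option linter.unusedSectionVars false

namespace Cfsg.Agent.Omega.NO3b.ZP

open Subgroup Cfsg
open Cfsg.Agent.ZN (o2 zc zl jj zj)
open Cfsg.Agent.ZN.ChoiceBase hiding mem_zc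
open Cfsg.Agent.ZN.ChoiceSit (Syl o2_le_syl)
open Cfsg.Agent.MinSimple.EmptyTI (syl_of_le)
open Cfsg.Agent.Omega.MinPar Cfsg.Agent.Omega.Frame Cfsg.Agent.Omega.FrameNOFF
open Cfsg.Agent.Omega.NO3b.EZero (NotFF oddGen_sup_syl cl le_cl cj_le_cl cl_le le_normalizer_cl)
open Cfsg.Agent.Omega.NO3b.Wc (WC StmtOff)
open Cfsg.Agent.Omega.NO3b.Chain (le_normalizer_inf le_normalizer_centralizer)
open Cfsg.Agent.MinSimple.VModule (oddGen zc_comm zc_sq le_normalizer_o2 normalizer_le_normalizer_zc le_normalizer_zl)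

universe u

section

variable {G : Type u} [Group G]

/-- `⟨Z^L⟩ ≤ ⟨Ω₁(Z(S))^L⟩` -/
theorem cl_le_zl {S Z : Subgroup G} (h : Z ≤ zc S) (L : Subgroup G) : cl Z L ≤ zl S L :=
  cl_le fun _ hp => (cj_mono _ (h.trans (MinSimple.VModule.zc_le_zl _ _))).trans
    (cj_eq_of_mem_normalizer (le_normalizer_zl _ _ hp)).le

/-- `L' = ⟨M(L), X⟩` -/
def nx (S Z L X : Subgroup G) : Subgroup G := ML S Z L ⊔ X

variable [Finite G]

/-- A member of the chain. -/
structure Stage (S : Sylow 2 G) (Z L : Subgroup G) : Prop extends Root S Z L where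
  low : cl Z L ≤ o2 (centralizer (Z : Set G))

/-- A panel of `V(L)` which gives a step of the chain. -/
structure Step (S : Sylow 2 G) (Z L F T X : Subgroup G) : Prop where
  fl : Fl S (VL (S : Subgroup G) Z L) F T
  zF : Z ≤ F
  par : Par S (VL (S : Subgroup G) Z L) F T X
  loc : ∃ R : Subgroup G, R ≠ ⊥ ∧ IsPGroup 2 R ∧ ML (S : Subgroup G) Z L ≤ normalizer (R : Set G) ∧
    X ≤ normalizer (R : Set G)
  nff : NotFF (cl Z (nx (S : Subgroup G) Z L X))
  low : cl Z (nx (S : Subgroup G) Z L X) ≤ o2 (centralizer (Z : Set G))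

/-- `L` is reached from `P`. -/
inductive Reach (S : Sylow 2 G) (Z P : Subgroup G) : Subgroup G → Prop
  | base : Reach S Z P P
  | step {L F T X : Subgroup G} : Reach S Z P L → Step S Z L F T X → Reach S Z P (nx (S : Subgroup G) Z L X)

variable {S : Sylow 2 G} {Z P L F T X : Subgroup G}

/-- `⟨Z^H⟩ ≤ Ω₁(Z(O₂(H)))` -/
theorem cl_le_zc_loc (hc : IsCharacteristicTwoType G) (hZ : Z ≤ zc (S : Subgroup G)) {H : Subgroup G}
    (hH : IsLoc (S : Subgroup G) H) : cl Z H ≤ zc (o2 H) := (cl_le_zl hZ H).trans (hH.zl_le S hc)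

/-- The frame of `ZP/Lines.lean` at a member of the chain. -/
theorem Stage.lines (h : Stage S Z L) (hc : IsCharacteristicTwoType G) :
    LinesZ S Z (WH (S : Subgroup G) Z L) (VL (S : Subgroup G) Z L) :=
  h.toRoot.lines' hc (Final.stmtOff G) h.low

/-- `V(L) ≤ O₂(C_G(D))` for `1 ≠ D ≤ V(L)`. -/
theorem Stage.good (h : Stage S Z L) (hc : IsCharacteristicTwoType G) {D : Subgroup G}
    (hD : D ≤ VL (S : Subgroup G) Z L) (hD1 : D ≠ ⊥) :
    VL (S : Subgroup G) Z L ≤ o2 (centralizer (D : Set G)) :=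
  h.toRoot.good hc (Final.stmtOff G) h.low hD hD1

/-- (K0) Every panel of `V(L)`, `Z ≤ F`, is local. -/
theorem Stage.loc (h : Stage S Z L) (hc : IsCharacteristicTwoType G)
    (f : Fl S (VL (S : Subgroup G) Z L) F T) (hZ : Z ≤ F)
    (p : Par S (VL (S : Subgroup G) Z L) F T X) :
    ∃ R : Subgroup G, R ≠ ⊥ ∧ IsPGroup 2 R ∧ ML (S : Subgroup G) Z L ≤ normalizer (R : Set G) ∧
      X ≤ normalizer (R : Set G) := by
  have h1 := exists_loc f (h.lines hc) FFBr.aStmt FFBr.ffthm hc hZ p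
  rwa [h.toRoot.cs_V] at h1

/-- The panels of `V(L)` exist. -/
theorem Stage.exists_panel (h : Stage S Z L) (hc : IsCharacteristicTwoType G)
    (hnz : ¬ centralizer (zc (S : Subgroup G) : Set G) ≤ normalizer (VL (S : Subgroup G) Z L : Set G)) :
    ∃ F T X, Fl S (VL (S : Subgroup G) Z L) F T ∧ Z ≤ F ∧ Par S (VL (S : Subgroup G) Z L) F T X := by
  obtain ⟨F, T, f, hZ⟩ := exists_fl_zc (h.lines hc) hnz
  obtain ⟨X, p⟩ := f.exists_par
  exact ⟨F, T, X, f, hZ, p⟩

/-- `C_G(Ω₁(Z(S)))` does not normalise `V(L)`. -/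
theorem Root.nle (h : Root S Z L) (hPL : P ≤ L) (hn : NonLoc P (CZ (S : Subgroup G))) :
    ¬ centralizer (zc (S : Subgroup G) : Set G) ≤ normalizer (VL (S : Subgroup G) Z L : Set G) := by
  intro h0
  have h1 := hn (VL (S : Subgroup G) Z L) h.V_two ((hPL.trans h.L_le).trans (ML_le_norm_V _ _ _)) h0
  exact h.Zne (le_bot_iff.1 ((Z_le_V _ _ _).trans h1.le))

namespace Step

variable (s : Step S Z L F T X)
include s

theorem isLoc (h : Root S Z L) : IsLoc (S : Subgroup G) (nx (S : Subgroup G) Z L X) := by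
  obtain ⟨R, hR, hR2, h1, h2⟩ := s.loc
  exact isLoc_of_le_normalizer S (h.S_le.trans le_sup_left) hR2 hR (sup_le h1 h2)

/-- (MIN) -/
theorem min_or (l : LinesZ S Z (WH (S : Subgroup G) Z L) (VL (S : Subgroup G) Z L)) {K : Subgroup G} (hK : K ≤ X)
    (hKn : X ≤ normalizer (K : Set G)) : oddGen X ≤ K ∨ T ⊓ K ≤ o2 X :=
  K0.min_or (s.fl.sylX s.par) (s.fl.isMinPar l s.par) hK hKn

/-- `O²(X)` does not normalise `V(L)`. -/
theorem oddGen_nle (h : Root S Z L) : ¬ oddGen X ≤ normalizer (VL (S : Subgroup G) Z L : Set G) := by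
  intro h0
  apply s.par.nle
  rw [← oddGen_sup_syl (s.fl.sylX s.par)]
  exact sup_le h0 (s.fl.T_le.trans (h.S_le.trans (ML_le_norm_V _ _ _)))

omit s [Finite G] in
theorem ML_le : ML (S : Subgroup G) Z L ≤ nx (S : Subgroup G) Z L X := le_sup_left

omit s [Finite G] in
theorem X_le : X ≤ nx (S : Subgroup G) Z L X := le_sup_right

omit s [Finite G] in
/-- `V(L) ≤ ⟨Z^{L'}⟩` -/
theorem V_le : VL (S : Subgroup G) Z L ≤ cl Z (nx (S : Subgroup G) Z L X) := cl_mono _ ML_le

/-- `W(L) ≤ T` -/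
theorem WH_le (h : Root S Z L) : WH (S : Subgroup G) Z L ≤ T := by
  rw [← h.cs_V]
  exact s.fl.Q0_le

omit s in
/-- `C_S(⟨Z^{L'}⟩)` in terms of `W(L)`. -/
theorem cs_eq (h : Root S Z L) :
    (S : Subgroup G) ⊓ centralizer (cl Z (nx (S : Subgroup G) Z L X) : Set G) =
      WH (S : Subgroup G) Z L ⊓ centralizer (cl Z (nx (S : Subgroup G) Z L X) : Set G) :=
  le_antisymm (le_inf ((inf_le_inf_left _ (centralizer_le (V_le (X := X)))).trans h.cs_V.le) inf_le_right)
    (inf_le_inf_right _ (WH_le_S _ _ _))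

/-- `C_S(⟨Z^{L'}⟩)` in terms of `O₂(X)`. -/
theorem cs_eq' (h : Root S Z L) (l : LinesZ S Z (WH (S : Subgroup G) Z L) (VL (S : Subgroup G) Z L)) :
    (S : Subgroup G) ⊓ centralizer (cl Z (nx (S : Subgroup G) Z L X) : Set G) =
      o2 X ⊓ centralizer (cl Z (nx (S : Subgroup G) Z L X) : Set G) := by
  have hX : X ≤ normalizer (cl Z (nx (S : Subgroup G) Z L X) : Set G) :=
    X_le.trans (le_normalizer_cl _ _)
  apply le_antisymm
  · refine le_inf ?_ inf_le_right
    rcases s.min_or l (K := X ⊓ centralizer (cl Z (nx (S : Subgroup G) Z L X) : Set G)) inf_le_left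
      (le_normalizer_inf Subgroup.le_normalizer (le_normalizer_centralizer hX)) with h1 | h1
    · exfalso
      apply s.oddGen_nle h
      exact ((h1.trans inf_le_right).trans (centralizer_le V_le)).trans (centralizer_le_normalizer _)
    · rw [cs_eq h]
      exact (le_inf (inf_le_left.trans (s.WH_le h)) (le_inf ((inf_le_left.trans (s.WH_le h)).trans s.par.T_le)
        inf_le_right)).trans h1
  · exact inf_le_inf_right _ ((o2_le_syl (s.fl.sylX s.par)).trans s.fl.T_le)

/-- **The next member.** -/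
theorem next (hc : IsCharacteristicTwoType G) (h : Root S Z L)
    (l : LinesZ S Z (WH (S : Subgroup G) Z L) (VL (S : Subgroup G) Z L)) :
    Stage S Z (nx (S : Subgroup G) Z L X) := by
  have hz := cl_le_zc_loc hc h.Zc (s.isLoc h)
  refine { le := h.S_le.trans le_sup_left, Zne := h.Zne, Zc := h.Zc, comm := ?_, sq := fun v hv => zc_sq _ v (hz hv),
           nff := s.nff, cs := sup_le ?_ ?_, low := s.low }
  · intro x hx
    rw [mem_centralizer_iff]
    intro y hy
    exact zc_comm _ _ (hz hy) _ (hz hx)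
  · rw [cs_eq h]
    exact le_normalizer_inf le_rfl (le_normalizer_centralizer (ML_le.trans (le_normalizer_cl _ _)))
  · rw [s.cs_eq' h l]
    exact le_normalizer_inf (le_normalizer_o2 X) (le_normalizer_centralizer (X_le.trans (le_normalizer_cl _ _)))

omit s in
/-- `M(L) ≤ M(L')` -/
theorem ML_le_ML (h' : Root S Z (nx (S : Subgroup G) Z L X)) :
    ML (S : Subgroup G) Z L ≤ ML (S : Subgroup G) Z (nx (S : Subgroup G) Z L X) := ML_le.trans h'.L_le

/-- `V(L) < V(L')` -/
theorem lt (h' : Root S Z (nx (S : Subgroup G) Z L X)) :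
    VL (S : Subgroup G) Z L < VL (S : Subgroup G) Z (nx (S : Subgroup G) Z L X) := by
  refine lt_of_le_of_ne (V_le.trans h'.cl_le_V) fun h1 => s.par.nle ?_
  rw [h1]
  exact (X_le.trans h'.L_le).trans (ML_le_norm_V _ _ _)

/-- `W(L') < W(L)` -/
theorem WH_lt (h : Root S Z L) (h' : Root S Z (nx (S : Subgroup G) Z L X)) :
    WH (S : Subgroup G) Z (nx (S : Subgroup G) Z L X) < WH (S : Subgroup G) Z L := by
  have h1 : WH (S : Subgroup G) Z (nx (S : Subgroup G) Z L X) ≤ WH (S : Subgroup G) Z L := by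
    rw [← h.cs_V, ← h'.cs_V]
    exact inf_le_inf_left _ (centralizer_le (s.lt h').le)
  refine lt_of_le_of_ne h1 fun he => (s.lt h').ne ?_
  rw [VL, VL, ML, ML, he]

end Step

theorem Reach.stage (hc : IsCharacteristicTwoType G) (hP : Stage S Z P) (r : Reach S Z P L) : Stage S Z L := by
  induction r with
  | base => exact hP
  | step _ s ih => exact s.next hc ih.toRoot (ih.lines hc)

theorem Reach.trans {L' : Subgroup G} (r : Reach S Z P L) (r' : Reach S Z L L') : Reach S Z P L' := by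
  induction r' with
  | base => exact r
  | step _ s ih => exact ih.step s

/-- `P ≤ L` -/
theorem Reach.le (hc : IsCharacteristicTwoType G) (hP : Stage S Z P) (r : Reach S Z P L) : P ≤ L := by
  induction r with
  | base => exact le_rfl
  | step r s ih => exact ih.trans ((r.stage hc hP).L_le.trans Step.ML_le)

/-- `M(P) ≤ M(L)` -/
theorem Reach.ML_le (hc : IsCharacteristicTwoType G) (hP : Stage S Z P) (r : Reach S Z P L) :
    ML (S : Subgroup G) Z P ≤ ML (S : Subgroup G) Z L := by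
  induction r with
  | base => exact le_rfl
  | step r s ih => exact ih.trans (Step.ML_le_ML ((r.step s).stage hc hP).toRoot)

/-- `V(P) ≤ V(L)` -/
theorem Reach.V_le (hc : IsCharacteristicTwoType G) (hP : Stage S Z P) (r : Reach S Z P L) :
    VL (S : Subgroup G) Z P ≤ VL (S : Subgroup G) Z L := by
  induction r with
  | base => exact le_rfl
  | step r s ih => exact ih.trans (s.lt ((r.step s).stage hc hP).toRoot).le

/-- **The last member of the chain.** -/
theorem exists_last (hc : IsCharacteristicTwoType G) (hP : Stage S Z P) :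
    ∃ L, Reach S Z P L ∧ ∀ F T X, ¬ Step S Z L F T X := by
  obtain ⟨L, hL, hmax⟩ := Set.exists_max_image {L : Subgroup G | Reach S Z P L}
    (fun L => Nat.card (VL (S : Subgroup G) Z L)) (Set.toFinite _) ⟨P, Reach.base⟩
  refine ⟨L, hL, fun F T X s => ?_⟩
  have h1 := s.lt ((Reach.step hL s).stage hc hP).toRoot
  have h2 := hmax _ (Reach.step hL s)
  exact h1.ne (Subgroup.eq_of_le_of_card_ge h1.le h2)

/-- At the last member every panel is local and has `⟨Z^{L'}⟩` FF or not in `O₂(C_G(Z))`. -/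
theorem last_or (hc : IsCharacteristicTwoType G) (h : Stage S Z L)
    (hl : ∀ F T X, ¬ Step S Z L F T X) (f : Fl S (VL (S : Subgroup G) Z L) F T) (hZ : Z ≤ F)
    (p : Par S (VL (S : Subgroup G) Z L) F T X) : ¬ NotFF (cl Z (nx (S : Subgroup G) Z L X)) ∨
      ¬ cl Z (nx (S : Subgroup G) Z L X) ≤ o2 (centralizer (Z : Set G)) := by
  by_contra hcon
  push Not at hcon
  exact hl F T X ⟨f, hZ, p, h.loc hc f hZ p, hcon.1, hcon.2⟩

end

end Cfsg.Agent.Omega.NO3b.ZP
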