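import Cfsg.Agent.Omega.NO3b.ZP.Chain.Two
import Cfsg.Agent.Omega.NO3b.ZP.Chain.Sit
import Cfsg.Agent.Omega.NO3b.Chain.Gam

/-!
# RBz, Z'-port: case (γ) at the last member of the chain (#22471; helper235's `Chain/Gam.lean`)

`L` a member of the chain, `(F, T, X)` a panel of `V = V(L)`, `H = ⟨M(L), X⟩`, `U = ⟨Z^H⟩`, `Γ = XX hN` the group
induced by `H` on `U`.

* `Stage.sit` : the panel acts on `U` (`Bridge.Sit`);
* `red_of_stage` : `O₂(M / C_M(V)) = 1` for the image `M` of `M(L)`;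
* `Stage.mx` : `⟨Z^H⟩` FF: the M-side frame `MX` for the images of `M(L)`, `X`, `W(L)`, `A` for every line `x V` moved
  by the optimal offender `A ≤ W(L)`; `Stage.exists_mx`;
* `syl_bar`, `gen_bar`, `gen_bar_stage` : fields of `Blk`.
-/

set_option autoImplicit false

namespace Cfsg.Agent.Omega.NO3b.ZP

open Subgroup Cfsg
open Cfsg.Agent.ZN (o2 zc zl jj zj)
open Cfsg.Agent.ZN.ChoiceBase hiding mem_zc
open Cfsg.Agent.ZN.ChoiceSit (Syl o2_le_syl syl_not_dvd)
open Cfsg.Agent.MinSimple.EmptyTI (syl_of_le)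
open Cfsg.Agent.Omega.MinPar Cfsg.Agent.Omega.Frame
open Cfsg.Agent.Omega.NO3b.EZero (NotFF cent_symm cl le_cl cj_le_cl cl_le le_normalizer_cl)
open Cfsg.Agent.Omega.NOThreeL.Star (Opt)
open Cfsg.Agent.Omega.NO3b.Exit
open Cfsg.Agent.Omega.NO3b.Exit.Bridge
open Cfsg.Agent.Omega.NO3b.Exit.TDat (MX Red mx_of_tight)
open Cfsg.Agent.Omega.FFBr (XX pr im mem_im)
open Cfsg.Agent.Omega.FF.Basic (fx)
open Cfsg.Agent.Omega.NO3b.Exit.TT (nf)
open Cfsg.Agent.MinSimple.VModule (le_normalizer_zl le_normalizer_o2 o2_le oddGen zc_comm zc_sq)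
open scoped Pointwise

universe u

variable {G : Type u} [Group G] {S Z L F T X : Subgroup G}

/-- `U = ⟨Z^H⟩`, `H = ⟨M(L), X⟩` -/
abbrev UU (S Z L X : Subgroup G) : Subgroup G := cl Z (nx S Z L X)

/-- `H` normalises `U` -/
theorem hN (S Z L X : Subgroup G) : nx S Z L X ≤ normalizer (UU S Z L X : Set G) := le_normalizer_cl _ _

variable [Finite G]

section stage

variable {S : Sylow 2 G} (h : Stage S Z L) (hc : IsCharacteristicTwoType G)
  (f : Fl S (VL (S : Subgroup G) Z L) F T) (hZ : Z ≤ F) (p : Par S (VL (S : Subgroup G) Z L) F T X)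
include h hc f hZ p

theorem Stage.isLoc : IsLoc (S : Subgroup G) (nx (S : Subgroup G) Z L X) := by
  obtain ⟨R, hR, hR2, h1, h2⟩ := h.loc hc f hZ p
  exact isLoc_of_le_normalizer S (h.S_le.trans le_sup_left) hR2 hR (sup_le h1 h2)

theorem Stage.UU_le : UU (S : Subgroup G) Z L X ≤ zc (o2 (nx (S : Subgroup G) Z L X)) :=
  cl_le_zc_loc hc h.Zc (h.isLoc hc f hZ p)

theorem Stage.cU : UU (S : Subgroup G) Z L X ≤ centralizer (UU (S : Subgroup G) Z L X : Set G) := by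
  intro x hx
  rw [mem_centralizer_iff]
  intro y hy
  exact zc_comm _ _ (h.UU_le hc f hZ p hy) _ (h.UU_le hc f hZ p hx)

/-- the panel acts on `U` -/
theorem Stage.sit : Sit (VL (S : Subgroup G) Z L) F T X (UU (S : Subgroup G) Z L X) :=
  sit_of_fl (h.lines hc) f p (h.cU hc f hZ p) (fun u hu => zc_sq _ u (h.UU_le hc f hZ p hu)) Step.V_le
    (Step.X_le.trans (le_normalizer_cl _ _))

omit hc f hZ p in
/-- `O₂(M / C_M(V)) = 1` -/
theorem red_of_stage {U H : Subgroup G} (hN : H ≤ normalizer (U : Set G)) (hU : U ≤ centralizer (U : Set G))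
    (hM : ML (S : Subgroup G) Z L ≤ H) (hVU : VL (S : Subgroup G) Z L ≤ U) :
    Red (im hN (ML (S : Subgroup G) Z L)) (ad hU (VL (S : Subgroup G) Z L)) :=
  LocBar.red_im (S := (S : Subgroup G)) (Z := Z) hN hM (syl_of_le (h.S_le)) hVU
    (ML_le_norm_V _ _ _) (le_cl _ _) ((MinSimple.VModule.le_centralizer_zc _).trans (centralizer_le h.Zc))
    fun _ hW hWM => cl_le' hW hWM

/-- the M-side frame for every line moved by `A` -/
theorem Stage.mx {A : Subgroup G} (hA : Opt (UU (S : Subgroup G) Z L X) A) (hAW : A ≤ WH (S : Subgroup G) Z L)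
    (hAX : ¬ A ≤ o2 X) (h2 : K0.Mix.Two (VL (S : Subgroup G) Z L) X)
    {x : ↥(im (hN (S : Subgroup G) Z L X) X)}
    (hx : ¬ imx (hN (S : Subgroup G) Z L X) X A ≤
      nf _ (sm x (ad (h.cU hc f hZ p) (VL (S : Subgroup G) Z L)))) :
    MX (im (hN (S : Subgroup G) Z L X) (ML (S : Subgroup G) Z L)) (im (hN (S : Subgroup G) Z L X) X)
      (im (hN (S : Subgroup G) Z L X) (WH (S : Subgroup G) Z L)) (im (hN (S : Subgroup G) Z L X) A)
      (ad (h.cU hc f hZ p) (VL (S : Subgroup G) Z L)) (ad (h.cU hc f hZ p) F)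
      (x : XX (hN (S : Subgroup G) Z L X)) := by
  have s := h.sit hc f hZ p
  have hXH : X ≤ nx (S : Subgroup G) Z L X := Step.X_le
  have hMH : ML (S : Subgroup G) Z L ≤ nx (S : Subgroup G) Z L X := Step.ML_le
  obtain ⟨P, hP⟩ := s.exists_syl (hN (S : Subgroup G) Z L X) hXH
  have hBT : WH (S : Subgroup G) Z L ≤ T := by
    rw [← h.cs_V]
    exact f.Q0_le
  have hAT : A ≤ T := hAW.trans hBT
  have hAXX : A ≤ X := hAT.trans s.syl.1
  have e : (imx (hN (S : Subgroup G) Z L X) X A).map (im (hN (S : Subgroup G) Z L X) X).subtype =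
      im (hN (S : Subgroup G) Z L X) A := by
    unfold imx
    rw [subgroupOf_map_subtype]
    exact inf_eq_left.2 (LocBar.im_mono _ hAXX)
  have hSM : (S : Subgroup G) ≤ ML (S : Subgroup G) Z L := h.S_le
  have key := mx_of_tight (faith (hc := s.cm) (hN (S : Subgroup G) Z L X)) (s.datU (hN (S : Subgroup G) Z L X) hXH hP)
    (s.mbu (hN (S : Subgroup G) Z L X) hXH hA hAT hAX) (by
      intro h0
      refine s.two_ne hA hAT hAX h2 fun a ha => ?_
      have h1 : phi (hN (S : Subgroup G) Z L X) hXH ⟨a, hAXX ha.1⟩ ∈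
          imx (hN (S : Subgroup G) Z L X) X A ⊓ pCore 2 ↥(im (hN (S : Subgroup G) Z L X) X) :=
        ⟨phi_mem_imx _ hXH ha.1, (s.mem_core_iff _ hXH (hAT ha.1)).2 ha.2⟩
      rw [h0, mem_bot] at h1
      exact (phi_eq_one _ hXH).1 h1)
    (M := im (hN (S : Subgroup G) Z L X) (ML (S : Subgroup G) Z L))
    (D := im (hN (S : Subgroup G) Z L X) (WH (S : Subgroup G) Z L))
    (fun m hm v hv => LocBar.im_smul _ (ML_le_norm_V _ _ _) hm hv)
    (LocBar.im_mono _ (hBT.trans s.syl.1)) (by rw [e]; exact LocBar.im_mono _ hAW)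
    (fun m hm d hd => LocBar.im_conj _ (by rfl) hm hd)
    (fun d hd v hv => LocBar.im_fix _ h.WH_cent hd hv) (by
      rw [← s.core_eq (hN (S : Subgroup G) Z L X) hXH]
      unfold imx
      rw [subgroupOf_map_subtype]
      refine inf_le_left.trans (LocBar.im_mono _ ?_)
      exact (o2_le_syl s.syl).trans (f.T_le.trans hSM)) (red_of_stage h _ _ hMH Step.V_le) hx
  rwa [e] at key

omit hZ p in
/-- **(γ)**: the M-side frame at the last member of the chain. -/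
theorem Stage.exists_mx (hZ : Z ≤ F) (p : Par S (VL (S : Subgroup G) Z L) F T X)
    (hff : ¬ NotFF (UU (S : Subgroup G) Z L X)) :
    ∃ (A : Subgroup G) (x : XX (hN (S : Subgroup G) Z L X)), Opt (UU (S : Subgroup G) Z L X) A ∧
      A ≤ WH (S : Subgroup G) Z L ∧ ¬ A ≤ o2 X ∧ x ∈ im (hN (S : Subgroup G) Z L X) X ∧
      MX (im (hN (S : Subgroup G) Z L X) (ML (S : Subgroup G) Z L)) (im (hN (S : Subgroup G) Z L X) X)
        (im (hN (S : Subgroup G) Z L X) (WH (S : Subgroup G) Z L)) (im (hN (S : Subgroup G) Z L X) A)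
        (ad (h.cU hc f hZ p) (VL (S : Subgroup G) Z L)) (ad (h.cU hc f hZ p) F) x := by
  obtain ⟨A, hA, hAW, hAX⟩ := h.exists_opt hc f hZ p hff
  have s := h.sit hc f hZ p
  have hXH : X ≤ nx (S : Subgroup G) Z L X := Step.X_le
  have hBT : WH (S : Subgroup G) Z L ≤ T := by
    rw [← h.cs_V]
    exact f.Q0_le
  have hAT : A ≤ T := hAW.trans hBT
  obtain ⟨x, hx⟩ := (s.tight (hN (S : Subgroup G) Z L X) hXH hA hAT hAX).ex
  exact ⟨A, x, hA, hAW, hAX, x.2,
    h.mx hc f hZ p hA hAW hAX (h.two hc f hZ p (Or.inl hff)) hx⟩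

end stage

/-! ### the fields `syl`, `S2`, `gen` of `Blk` -/

section bar

variable {S : Sylow 2 G} (h : Stage S Z L) {U H : Subgroup G} (hN : H ≤ normalizer (U : Set G))
  (hU : U ≤ centralizer (U : Set G)) (hM : ML (S : Subgroup G) Z L ≤ H)

theorem SM_bar (h : Stage S Z L) : im hN (S : Subgroup G) ≤ im hN (ML (S : Subgroup G) Z L) :=
  LocBar.im_mono _ h.S_le

include h hM in
theorem syl_bar : ¬ 2 ∣ (im hN (S : Subgroup G)).relIndex (im hN (ML (S : Subgroup G) Z L)) :=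
  syl_not_dvd (LocBar.syl_im hN (syl_of_le h.S_le) hM)

omit [Finite G] in
/-- `V = ⟨C_V(S)^M⟩` -/
theorem gen_bar {M V : Subgroup G} (hM : M ≤ H) (hVU : V ≤ U) (hZc : Z ≤ zc (S : Subgroup G)) (hZV : Z ≤ V)
    (hV : ∀ W : Subgroup G, Z ≤ W → M ≤ normalizer (W : Set G) → V ≤ W)
    (W : AddSubgroup (MU hU)) (hW : ∀ m ∈ im hN M, ∀ w ∈ W, m • w ∈ W)
    (hZW : ∀ v ∈ ad hU V, (∀ s ∈ im hN (S : Subgroup G), s • v = v) → v ∈ W) : ad hU V ≤ W := by
  have h1 : V ≤ un W := by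
    refine hV _ (fun z hz => ?_) fun m hm => ?_
    · have h2 : mk hU (hVU (hZV hz)) ∈ W := by
        refine hZW _ (hZV hz) fun s hs => LocBar.im_fix hN (MinSimple.VModule.le_centralizer_zc _) hs (v := mk hU _) ?_
        exact hZc hz
      exact ⟨_, h2, rfl⟩
    · have key : ∀ a : G, a ∈ M → ∀ w ∈ un W, a * w * a⁻¹ ∈ un W := by
        rintro a ha _ ⟨w, hw, rfl⟩
        exact ⟨pr hN ⟨a, hM ha⟩ • w, hW _ (LocBar.pr_mem_im hN ha (hM ha)) w hw, rfl⟩
      rw [mem_normalizer_iff]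
      intro w
      refine ⟨key m hm w, fun hw => ?_⟩
      have h2 := key m⁻¹ (inv_mem hm) _ hw
      have e : m⁻¹ * (m * w * m⁻¹) * m⁻¹⁻¹ = w := by group
      rwa [e] at h2
  intro v hv
  exact val_mem_un.1 (h1 hv)

omit [Finite G] in
/-- the same for `V(L)` -/
theorem gen_bar_stage (hZc : Z ≤ zc (S : Subgroup G)) (hM : ML (S : Subgroup G) Z L ≤ H)
    (hVU : VL (S : Subgroup G) Z L ≤ U)
    (W : AddSubgroup (MU hU)) (hW : ∀ m ∈ im hN (ML (S : Subgroup G) Z L), ∀ w ∈ W, m • w ∈ W)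
    (hZW : ∀ v ∈ ad hU (VL (S : Subgroup G) Z L), (∀ s ∈ im hN (S : Subgroup G), s • v = v) → v ∈ W) :
    ad hU (VL (S : Subgroup G) Z L) ≤ W :=
  gen_bar hN hU hM hVU hZc (le_cl _ _) (fun _ hW hWM => cl_le' hW hWM) W hW hZW

end bar

end Cfsg.Agent.Omega.NO3b.ZP
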