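import Cfsg.Agent.Omega.NO3b.ZP.Chain.LemT
import Cfsg.Agent.Omega.NO3b.Chain.Group

/-!
# RBz, Z'-port: the group half of the block structure (MIN), (NE), (CZ) (#22471; helper235's `Chain/Group.lean`)

`L` the last member of the chain from `P ∈ P*(S)`; `U` an abelian group, `h : H ≤ N_G(U)`, `M(L) ≤ H`, `V(L) ≤ U`;
`XX h` the group induced by `H` on `U`, `im h A` the image of `A`, `ad hc K` the subgroup `K ∩ U` (`Exit/MU.lean`);
`pre h N` the preimage of `N` in `G` (`Chain/Group.lean`).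

* `min_im` : **(MIN)** `N` normalised by `O²(P)` and `S` contains `O²(P)`, or `S ∩ N` centralises `⟨Z^P⟩`;
* `ne_im` : **(NE)** `N ⊴ M(L)` with the property hX and `[V(L), S ∩ N] ≠ 1`: then `[⟨Z^P⟩, S ∩ N] ≠ 1`, `O²(P) ≤ N`;
* `cz_im` : **(CZ)** `C_{V(L)}(⟨S, O²(P)⟩) = 1`;
* `gen_im` : a subgroup of `U` normalised by `M(L)` which contains `C_{V(L)}(S)` contains `V(L)`.
-/

set_option autoImplicit false

namespace Cfsg.Agent.Omega.NO3b.ZP

open Subgroup Cfsg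
open Cfsg.Agent.ZN (o2 zc zl jj zj)
open Cfsg.Agent.ZN.ChoiceBase hiding mem_zc
open Cfsg.Agent.ZN.ChoiceSit (Syl o2_le_syl)
open Cfsg.Agent.Omega.MinPar Cfsg.Agent.Omega.Frame Cfsg.Agent.Omega.FrameNOFF
open Cfsg.Agent.Omega.NO3b.EZero (NotFF cent_symm oddGen_sup_syl cl le_cl cj_le_cl cl_le le_normalizer_cl)
open Cfsg.Agent.Omega.NO3b.Chain (pre mem_pre pre_le le_normalizer_pre le_pre im_le cent_iff oddGen_sup)
open Cfsg.Agent.MinSimple.VModule (oddGen oddGen_le le_normalizer_zl zl_le le_centralizer_zc mem_zc)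
open Cfsg.Agent.Omega.NO3b.Exit.Bridge
open Cfsg.Agent.Omega.NO3b.Exit.LocBar (pr_mem_im)
open Cfsg.Agent.Omega.FFBr (XX pr im mem_im)
open Cfsg.Agent.MinSimple.EmptyTI (syl_of_le)

universe u

variable {G : Type u} [Group G] [Finite G] {S : Sylow 2 G} {Z P L : Subgroup G}
  {H U : Subgroup G} (h : H ≤ normalizer (U : Set G)) {hcU : U ≤ centralizer (U : Set G)}

theorem Stage.zl_le_of_le (hL : Root S Z L) (hPL : P ≤ L) : cl Z P ≤ VL (S : Subgroup G) Z L :=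
  cl_mono _ (hPL.trans hL.L_le)

/-- **(MIN)** -/
theorem min_im (hc : IsCharacteristicTwoType G) (hZ : Z ≤ zc (S : Subgroup G)) (hPar : IsPar (S : Subgroup G) P)
    (hPH : P ≤ H) (hVU : cl Z P ≤ U) (N : Subgroup (XX h))
    (hO : ∀ o ∈ im h (oddGen P), ∀ n ∈ N, o * n * o⁻¹ ∈ N)
    (hS : ∀ s ∈ im h (S : Subgroup G), ∀ n ∈ N, s * n * s⁻¹ ∈ N) :
    im h (oddGen P) ≤ N ∨ ∀ s ∈ im h (S : Subgroup G) ⊓ N, ∀ v ∈ ad hcU (cl Z P), s • v = v := by
  have h1 : P ≤ normalizer (pre h N : Set G) := by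
    rw [← oddGen_sup hPar]
    exact sup_le (le_normalizer_pre h ((oddGen_le P).trans hPH) hO) (le_normalizer_pre h (hPar.le.trans hPH) hS)
  rcases oddGen_le_or' hc hZ hPar h1 with h2 | h2
  · exact Or.inl (im_le h h2)
  · exact Or.inr ((cent_iff h hVU).2 h2)

/-- `C_{V(L)}(S) ≤ Ω₁(Z(S))` -/
theorem mem_zc_of (hL : Root S Z L) {z : G} (hz : z ∈ VL (S : Subgroup G) Z L)
    (hzS : z ∈ centralizer ((S : Subgroup G) : Set G)) : z ∈ zc (S : Subgroup G) :=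
  mem_zc.2 ⟨hL.V_le_S hz, fun s hs => mem_centralizer_iff.1 hzS s hs, hL.V_sq z hz⟩

/-- hX of `lemT_fix`, from the property of `N`. -/
theorem fix_of (hSH : (S : Subgroup G) ≤ H) (hVU : VL (S : Subgroup G) Z L ≤ U) (hL : Root S Z L)
    (N : Subgroup (XX h))
    (hN : ∀ x ∈ N, (∀ z ∈ ad hcU (VL (S : Subgroup G) Z L), (∀ s ∈ im h (S : Subgroup G), s • z = z) → x • z = z) →
      ∀ v ∈ ad hcU (VL (S : Subgroup G) Z L), (∀ s ∈ im h (S : Subgroup G) ⊓ N, s • v = v) → x • v = v)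
    {X : Subgroup G} (hXZ : X ≤ centralizer (zc (S : Subgroup G) : Set G)) (hXN : oddGen X ≤ pre h N) :
    oddGen X ≤ centralizer ((VL (S : Subgroup G) Z L ⊓
      centralizer (((S : Subgroup G) ⊓ pre h N : Subgroup G) : Set G) : Subgroup G) : Set G) := by
  intro x hx
  rw [mem_centralizer_iff]
  rintro v ⟨hv, hv'⟩
  obtain ⟨hxH, hxN⟩ := (mem_pre h).1 (hXN hx)
  refine ((pr_smul_eq_iff' (hc := hcU) h (g := ⟨x, hxH⟩) (w := mk hcU (hVU hv))).1
    (hN _ hxN (fun z hz hzS => ?_) (mk hcU (hVU hv)) hv fun s hs => ?_)).symm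
  · have h1 : val z ∈ zc (S : Subgroup G) := by
      refine mem_zc_of hL hz (mem_centralizer_iff.2 fun s hs => ?_)
      exact (pr_smul_eq_iff' h).1 (hzS _ (pr_mem_im h hs (hSH hs)))
    exact (pr_smul_eq_iff' h).2 (mem_centralizer_iff.1 (hXZ (oddGen_le X hx)) _ h1).symm
  · obtain ⟨⟨a, ha, rfl⟩, haN⟩ := hs
    refine (pr_smul_eq_iff' h).2 ?_
    exact mem_centralizer_iff.1 hv' (a : G) ⟨ha, (mem_pre h).2 ⟨a.2, haN⟩⟩

/-- **(NE)** -/
theorem ne_im (hc : IsCharacteristicTwoType G) (hPar : IsPar (S : Subgroup G) P)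
    (hP : Stage S Z P) (r : Reach S Z P L) (hMH : ML (S : Subgroup G) Z L ≤ H) (hVU : VL (S : Subgroup G) Z L ≤ U)
    (N : Subgroup (XX h)) (hNM : ∀ m ∈ im h (ML (S : Subgroup G) Z L), ∀ n ∈ N, m * n * m⁻¹ ∈ N)
    (hN : ∀ x ∈ N, (∀ z ∈ ad hcU (VL (S : Subgroup G) Z L), (∀ s ∈ im h (S : Subgroup G), s • z = z) → x • z = z) →
      ∀ v ∈ ad hcU (VL (S : Subgroup G) Z L), (∀ s ∈ im h (S : Subgroup G) ⊓ N, s • v = v) → x • v = v)
    (hmv : ¬ ∀ s ∈ im h (S : Subgroup G) ⊓ N, ∀ v ∈ ad hcU (VL (S : Subgroup G) Z L), s • v = v) :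
    (¬ ∀ s ∈ im h (S : Subgroup G) ⊓ N, ∀ v ∈ ad hcU (cl Z P), s • v = v) ∧
      im h (oddGen P) ≤ N := by
  have hst := r.stage hc hP
  have hL := hst.toRoot
  have hR := le_normalizer_pre h hMH hNM
  have hPV : cl Z P ≤ U := (Stage.zl_le_of_le hL (r.le hc hP)).trans hVU
  have hX : ∀ X : Subgroup G, X ≤ ML (S : Subgroup G) Z L → X ≤ centralizer (zc (S : Subgroup G) : Set G) →
      oddGen X ≤ pre h N → oddGen X ≤ centralizer ((VL (S : Subgroup G) Z L ⊓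
        centralizer (((S : Subgroup G) ⊓ pre h N : Subgroup G) : Set G) : Subgroup G) : Set G) :=
    fun X _ hXZ hXN => fix_of h (hL.S_le.trans hMH) hVU hL N hN hXZ hXN
  have hmv' : ¬ (S : Subgroup G) ⊓ pre h N ≤ centralizer (VL (S : Subgroup G) Z L : Set G) :=
    fun h1 => hmv ((cent_iff h hVU).2 h1)
  refine ⟨fun h1 => hmv' (lemT_fix hc hP r hR hX ((cent_iff h hPV).1 h1)), im_le h ?_⟩
  exact oddGen_le_of_not hc hPar hP r hR hX hmv'

/-- **(CZ)** -/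
theorem cz_im (hPar : IsPar (S : Subgroup G) P) (hn : NonLoc P (CZ (S : Subgroup G))) (hL : Root S Z L)
    (hPH : P ≤ H) (z : MU hcU) (hz : z ∈ ad hcU (VL (S : Subgroup G) Z L))
    (hzS : ∀ s ∈ im h (S : Subgroup G), s • z = z) (hzO : ∀ o ∈ im h (oddGen P), o • z = z) : z = 0 := by
  have h1 : val z ∈ zc (S : Subgroup G) := by
    refine mem_zc_of hL hz (mem_centralizer_iff.2 fun s hs => ?_)
    exact (pr_smul_eq_iff' h).1 (hzS _ (pr_mem_im h hs (hPH (hPar.le hs))))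
  have h2 : P ≤ centralizer ((zpowers (val z) : Subgroup G) : Set G) := by
    rw [← oddGen_sup hPar]
    refine sup_le ?_ ?_
    · rw [le_centralizer_iff, zpowers_le, mem_centralizer_iff]
      intro o ho
      exact (pr_smul_eq_iff' h).1 (hzO _ (pr_mem_im h ho (hPH (oddGen_le P ho))))
    · refine (le_centralizer_zc _).trans (centralizer_le ?_)
      exact (zpowers_le.2 h1)
  have h3 := hn (zpowers (val z)) (S.isPGroup'.to_le ((zpowers_le.2 h1).trans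
    (MinSimple.VModule.zc_le _))) (h2.trans (centralizer_le_normalizer _)) (by
      refine le_trans ?_ (centralizer_le_normalizer _)
      exact centralizer_le (zpowers_le.2 h1))
  rw [zpowers_eq_bot] at h3
  exact val_inj (h3.trans val_zero.symm)

/-- `V(L) = ⟨C_{V(L)}(S)^{M(L)}⟩` -/
theorem gen_im (hZ : Z ≤ zc (S : Subgroup G)) (hMH : ML (S : Subgroup G) Z L ≤ H)
    (hVU : VL (S : Subgroup G) Z L ≤ U)
    (W : AddSubgroup (MU hcU)) (hW : ∀ m ∈ im h (ML (S : Subgroup G) Z L), ∀ w ∈ W, m • w ∈ W)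
    (hz : ∀ v ∈ ad hcU (VL (S : Subgroup G) Z L), (∀ s ∈ im h (S : Subgroup G), s • v = v) → v ∈ W) :
    ad hcU (VL (S : Subgroup G) Z L) ≤ W := by
  have h1 : ∀ m ∈ ML (S : Subgroup G) Z L, ∀ w ∈ un W, m * w * m⁻¹ ∈ un W := by
    rintro m hm _ ⟨w, hw, rfl⟩
    exact ⟨_, hW _ (pr_mem_im h hm (hMH hm)) w hw, rfl⟩
  have h2 : ML (S : Subgroup G) Z L ≤ normalizer (un W : Set G) := by
    intro m hm
    rw [mem_normalizer_iff]
    intro n
    refine ⟨fun hn => h1 m hm n hn, fun hn => ?_⟩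
    have h3 := h1 m⁻¹ (inv_mem hm) _ hn
    have e : m⁻¹ * (m * n * m⁻¹) * m⁻¹⁻¹ = n := by group
    rwa [e] at h3
  have h3 : Z ≤ un W := by
    intro z hzz
    have hzV : z ∈ VL (S : Subgroup G) Z L := le_cl _ _ hzz
    refine ⟨mk hcU (hVU hzV), hz _ hzV ?_, rfl⟩
    rintro _ ⟨a, ha, rfl⟩
    exact (pr_smul_eq_iff' h).2 ((mem_zc.1 (hZ hzz)).2.1 _ ha)
  have h4 : VL (S : Subgroup G) Z L ≤ un W := cl_le' h3 h2
  intro w hw
  exact val_mem_un.1 (h4 hw)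

end Cfsg.Agent.Omega.NO3b.ZP
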