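import Cfsg.Agent.Omega.NO3b.ZP.Chain.Frame
import Cfsg.Agent.Omega.NO3b.Chain.LemT

/-!
# RBz, Z'-port: LEMMA T along the chain (#22471; helper235's `Chain/LemT.lean`)

`L` is reached from `P`, `M = M(L)` normalises a subgroup `R`, `D = S ∩ R`.

* `le_WH_of_cent` : (T1) `[⟨Z^L⟩, D] = 1` implies `D ≤ W(L)`;
* `Step.cent_of_le` : (T2) `D ≤ W(L)`, `O²(X) ≰ R` imply `[⟨Z^{L'}⟩, D] = 1`;
* `lemT`, `lemT_WH` : **LEMMA T**: `[⟨Z^P⟩, D] = 1` implies `[V(L), D] = 1`, if `O²(X) ≰ R` for all panels `X` used;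
* `lemT_fix` : the same if `O²(X)` centralises `C_{V(L)}(D)` for all `X ≤ C_M(Ω₁(Z(S)))` with `O²(X) ≤ R`;
* `oddGen_le_of_not` : if `[V(L), D] ≠ 1`, then `O²(P) ≤ R`, `P ∈ P(S)`.
-/

set_option autoImplicit false

namespace Cfsg.Agent.Omega.NO3b.ZP

open Subgroup Cfsg
open Cfsg.Agent.ZN (o2 zc zl jj zj)
open Cfsg.Agent.ZN.ChoiceBase hiding mem_zc
open Cfsg.Agent.ZN.ChoiceSit (Syl o2_le_syl)
open Cfsg.Agent.Omega.MinPar Cfsg.Agent.Omega.Frame
open Cfsg.Agent.Omega.NO3b.EZero (NotFF cent_symm cl le_cl cj_le_cl cl_le le_normalizer_cl)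
open Cfsg.Agent.Omega.NO3b.Wc (WC StmtOff)
open Cfsg.Agent.Omega.NO3b.Chain (le_normalizer_inf le_normalizer_centralizer cj_inf_le oddGen_le_or)
open Cfsg.Agent.MinSimple.VModule (oddGen oddGen_le oddGen_le_of_sup le_normalizer_zl le_normalizer_o2 zl_le
  le_centralizer_zc)

universe u

variable {G : Type u} [Group G] [Finite G] {S : Sylow 2 G} {Z P L F T X R : Subgroup G}

/-- **(T1)** -/
theorem le_WH_of_cent (hR : ML (S : Subgroup G) Z L ≤ normalizer (R : Set G))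
    (hD : (S : Subgroup G) ⊓ R ≤ centralizer (cl Z L : Set G)) :
    (S : Subgroup G) ⊓ R ≤ WH (S : Subgroup G) Z L := by
  set K : Subgroup G := (S : Subgroup G) ⊓ R ⊔ WH (S : Subgroup G) Z L with hK
  have hKQ : K ≤ QL (S : Subgroup G) Z L := sup_le (le_inf inf_le_left hD) (WH_le _ _ _)
  refine (le_sup_left : (S : Subgroup G) ⊓ R ≤ K).trans (le_WH ⟨hKQ.trans inf_le_left, fun g hg => ?_⟩ hKQ)
  have h2 : g ∈ ML (S : Subgroup G) Z L := mem_ML_of_le ((cj_mono g le_sup_right).trans hg)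
  have h4 : cj g K ≤ K := by
    change Subgroup.map _ _ ≤ _
    rw [hK, Subgroup.map_sup]
    refine sup_le_sup (cj_inf_le hR h2 ((cj_mono g le_sup_left).trans hg)) ?_
    exact (cj_eq_of_mem_normalizer h2).le
  exact Subgroup.eq_of_le_of_card_ge h4 (card_cj _ _).ge

/-- **(T2)** -/
theorem Step.cent_of_le (s : Step S Z L F T X) (h : Root S Z L)
    (l : LinesZ S Z (WH (S : Subgroup G) Z L) (VL (S : Subgroup G) Z L))
    (hR : nx (S : Subgroup G) Z L X ≤ normalizer (R : Set G))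
    (hD : (S : Subgroup G) ⊓ R ≤ WH (S : Subgroup G) Z L) (hX : ¬ oddGen X ≤ R) :
    (S : Subgroup G) ⊓ R ≤ centralizer (cl Z (nx (S : Subgroup G) Z L X) : Set G) := by
  have h1 : (S : Subgroup G) ⊓ R = WH (S : Subgroup G) Z L ⊓ R :=
    le_antisymm (le_inf hD inf_le_right) (inf_le_inf_right _ (WH_le_S _ _ _))
  have h2 : (S : Subgroup G) ⊓ R = o2 X ⊓ R := by
    apply le_antisymm
    · refine le_inf ?_ inf_le_right
      rcases s.min_or l (K := X ⊓ R) inf_le_left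
        (le_normalizer_inf Subgroup.le_normalizer (Step.X_le.trans hR)) with h3 | h3
      · exact absurd (h3.trans inf_le_right) hX
      · have h4 : (S : Subgroup G) ⊓ R ≤ T := hD.trans (s.WH_le h)
        exact (le_inf h4 (le_inf (h4.trans s.par.T_le) inf_le_right)).trans h3
    · exact inf_le_inf_right _ ((o2_le_syl (s.fl.sylX s.par)).trans s.fl.T_le)
  have h5 : nx (S : Subgroup G) Z L X ≤ normalizer (((S : Subgroup G) ⊓ R : Subgroup G) : Set G) := by
    refine sup_le ?_ ?_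
    · rw [h1]
      exact le_normalizer_inf le_rfl (Step.ML_le.trans hR)
    · rw [h2]
      exact le_normalizer_inf (le_normalizer_o2 X) (Step.X_le.trans hR)
  refine cent_symm (cl_le' ?_ (le_normalizer_centralizer h5))
  exact cent_symm (inf_le_left.trans ((le_centralizer_zc _).trans (centralizer_le h.Zc)))

/-- **LEMMA T** along the chain, `D ≤ W(L)`. -/
theorem lemT_WH (hc : IsCharacteristicTwoType G) (hP : Stage S Z P)
    (r : Reach S Z P L) (hR : ML (S : Subgroup G) Z L ≤ normalizer (R : Set G))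
    (hX : ∀ L₁ F T X : Subgroup G, Reach S Z P L₁ → Step S Z L₁ F T X → Reach S Z (nx (S : Subgroup G) Z L₁ X) L →
      (S : Subgroup G) ⊓ R ≤ WH (S : Subgroup G) Z L₁ → ¬ oddGen X ≤ R)
    (h0 : (S : Subgroup G) ⊓ R ≤ centralizer (cl Z P : Set G)) :
    (S : Subgroup G) ⊓ R ≤ WH (S : Subgroup G) Z L := by
  have key : ∀ L₁ : Subgroup G, Reach S Z P L₁ → Reach S Z L₁ L →
      (S : Subgroup G) ⊓ R ≤ centralizer (cl Z L₁ : Set G) := by
    intro L₁ r₁
    induction r₁ with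
    | base => exact fun _ => h0
    | @step L₂ F T X r₂ s ih =>
      intro r₃
      have hs := r₂.stage hc hP
      have hs' := (r₂.step s).stage hc hP
      have r₄ : Reach S Z L₂ L := (Reach.base.step s).trans r₃
      have h1 := le_WH_of_cent ((r₄.ML_le hc hs).trans hR) (ih r₄)
      exact s.cent_of_le hs.toRoot (hs.lines hc) ((hs'.L_le.trans (r₃.ML_le hc hs')).trans hR) h1
        (hX L₂ F T X r₂ s r₃ h1)
  exact le_WH_of_cent hR (key L r Reach.base)

/-- **LEMMA T** along the chain. -/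
theorem lemT (hc : IsCharacteristicTwoType G) (hP : Stage S Z P)
    (r : Reach S Z P L) (hR : ML (S : Subgroup G) Z L ≤ normalizer (R : Set G))
    (hX : ∀ L₁ F T X : Subgroup G, Reach S Z P L₁ → Step S Z L₁ F T X → Reach S Z (nx (S : Subgroup G) Z L₁ X) L →
      (S : Subgroup G) ⊓ R ≤ WH (S : Subgroup G) Z L₁ → ¬ oddGen X ≤ R)
    (h0 : (S : Subgroup G) ⊓ R ≤ centralizer (cl Z P : Set G)) :
    (S : Subgroup G) ⊓ R ≤ centralizer (VL (S : Subgroup G) Z L : Set G) :=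
  (lemT_WH hc hP r hR hX h0).trans (r.stage hc hP).WH_cent

/-- The panels used: `X ≤ C_M(Ω₁(Z(S)))`, and `O²(X)` does not centralise `C_{V(L)}(D)` if `D ≤ W(L₁)`. -/
theorem not_cent_of (hc : IsCharacteristicTwoType G) (hP : Stage S Z P)
    {L₁ : Subgroup G} (r₁ : Reach S Z P L₁) (s : Step S Z L₁ F T X) (r₃ : Reach S Z (nx (S : Subgroup G) Z L₁ X) L)
    (hD : (S : Subgroup G) ⊓ R ≤ WH (S : Subgroup G) Z L₁) :
    X ≤ ML (S : Subgroup G) Z L ∧ X ≤ centralizer (zc (S : Subgroup G) : Set G) ∧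
      ¬ oddGen X ≤ centralizer ((VL (S : Subgroup G) Z L ⊓
        centralizer (((S : Subgroup G) ⊓ R : Subgroup G) : Set G) : Subgroup G) : Set G) := by
  have hs := r₁.stage hc hP
  have hs' := (r₁.step s).stage hc hP
  refine ⟨(Step.X_le.trans hs'.L_le).trans (r₃.ML_le hc hs'), s.par.cz, ?_⟩
  intro h1
  apply s.oddGen_nle hs.toRoot
  refine (h1.trans (centralizer_le ?_)).trans (centralizer_le_normalizer _)
  refine le_inf ((s.lt hs'.toRoot).le.trans (r₃.V_le hc hs')) ?_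
  exact cent_symm (hD.trans hs.WH_cent)

/-- **LEMMA T**, the panels excluded by the action on `C_{V(L)}(D)`. -/
theorem lemT_fix (hc : IsCharacteristicTwoType G) (hP : Stage S Z P)
    (r : Reach S Z P L) (hR : ML (S : Subgroup G) Z L ≤ normalizer (R : Set G))
    (hX : ∀ X : Subgroup G, X ≤ ML (S : Subgroup G) Z L → X ≤ centralizer (zc (S : Subgroup G) : Set G) →
      oddGen X ≤ R → oddGen X ≤ centralizer ((VL (S : Subgroup G) Z L ⊓
        centralizer (((S : Subgroup G) ⊓ R : Subgroup G) : Set G) : Subgroup G) : Set G))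
    (h0 : (S : Subgroup G) ⊓ R ≤ centralizer (cl Z P : Set G)) :
    (S : Subgroup G) ⊓ R ≤ centralizer (VL (S : Subgroup G) Z L : Set G) := by
  refine lemT hc hP r hR (fun L₁ F T X r₁ s r₃ hD hXR => ?_) h0
  obtain ⟨h1, h2, h3⟩ := not_cent_of hc hP r₁ s r₃ hD
  exact h3 (hX X h1 h2 hXR)

/-- `O²(P) ≤ R` or `[⟨Z^P⟩, D] = 1`. -/
theorem oddGen_le_or' (hc : IsCharacteristicTwoType G) (hZ : Z ≤ zc (S : Subgroup G)) (hP : IsPar (S : Subgroup G) P)
    (hR : P ≤ normalizer (R : Set G)) :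
    oddGen P ≤ R ∨ (S : Subgroup G) ⊓ R ≤ centralizer (cl Z P : Set G) :=
  (oddGen_le_or hc hP hR).imp_right fun h => h.trans (centralizer_le (cl_le_zl hZ P))

/-- **If `[V(L), D] ≠ 1`, then `O²(P) ≤ R`.** -/
theorem oddGen_le_of_not (hc : IsCharacteristicTwoType G)
    (hPar : IsPar (S : Subgroup G) P) (hP : Stage S Z P)
    (r : Reach S Z P L) (hR : ML (S : Subgroup G) Z L ≤ normalizer (R : Set G))
    (hX : ∀ X : Subgroup G, X ≤ ML (S : Subgroup G) Z L → X ≤ centralizer (zc (S : Subgroup G) : Set G) →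
      oddGen X ≤ R → oddGen X ≤ centralizer ((VL (S : Subgroup G) Z L ⊓
        centralizer (((S : Subgroup G) ⊓ R : Subgroup G) : Set G) : Subgroup G) : Set G))
    (hV : ¬ (S : Subgroup G) ⊓ R ≤ centralizer (VL (S : Subgroup G) Z L : Set G)) : oddGen P ≤ R :=
  (oddGen_le_or' hc hP.Zc hPar (((r.le hc hP).trans (r.stage hc hP).L_le).trans hR)).resolve_right
    fun h0 => hV (lemT_fix hc hP r hR hX h0)

end Cfsg.Agent.Omega.NO3b.ZP
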