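import Cfsg.Agent.Omega.NO3b.ZP.Chain.Group
import Cfsg.Agent.Omega.NO3b.Exit.BlkTr

/-!
# The frame of NotFF for `Z ≤ Ω₁(Z(S))`: (NE) for `YM` (`Chain/Shape.lean`, helper255)

* `ne_blk` : (NE) `[⟨Z^P⟩, S ∩ YM] ≠ 1` and `O²(P) ≤ YM`.
-/

set_option autoImplicit false

namespace Cfsg.Agent.Omega.NO3b.ZP

open Subgroup Cfsg
open Cfsg.Agent.ZN (o2 zc zl jj zj)
open Cfsg.Agent.ZN.ChoiceBase hiding mem_zc
open Cfsg.Agent.ZN.ChoiceSit (Syl)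
open Cfsg.Agent.Omega.MinPar Cfsg.Agent.Omega.Frame Cfsg.Agent.Omega.FrameNOFF
open Cfsg.Agent.Omega.NO3b.EZero (NotFF cl)
open Cfsg.Agent.Omega.NO3b.Exit
open Cfsg.Agent.Omega.NO3b.Exit.Bridge
open Cfsg.Agent.Omega.NO3b.Exit.TDat (MX sbc FFq ncl KV)
open Cfsg.Agent.Omega.NO3b.Exit.BlkZ (Blk0)
open Cfsg.Agent.Omega.FFBr (XX pr im mem_im)
open Cfsg.Agent.MinSimple.VModule (oddGen)
open scoped Pointwise

universe u

variable {G : Type u} [Group G] [Finite G] {S : Sylow 2 G} {Z P L : Subgroup G}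

/-- **(NE)** -/
theorem ne_blk {U H : Subgroup G} {hH : H ≤ normalizer (U : Set G)} {hU : U ≤ centralizer (U : Set G)}
    (hc : IsCharacteristicTwoType G) (hPar : IsPar (S : Subgroup G) P)
    (hP : Stage S Z P) (r : Reach S Z P L) (hMH : ML (S : Subgroup G) Z L ≤ H) (hVU : VL (S : Subgroup G) Z L ≤ U)
    {Y Q BB KV : Subgroup (XX hH)} {F Lw C : AddSubgroup (MU hU)} {x : XX hH}
    (B : Blk0 Y Q BB (ad hU (VL (S : Subgroup G) Z L)) F Lw C x (im hH (ML (S : Subgroup G) Z L)) KV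
      (im hH (S : Subgroup G))) :
    (¬ ∀ s ∈ im hH (S : Subgroup G) ⊓ B.YM, ∀ v ∈ ad hU (cl Z P), s • v = v) ∧
      im hH (oddGen P) ≤ B.YM := by
  refine ne_im hH hc hPar hP r hMH hVU B.YM (fun m hm n hn => B.YM_conj hm hn) (fun x hx hxS v hv hvS =>
    B.hX hx hxS hv fun s hs hsY => hvS s ⟨hs, hsY⟩) fun h0 => ?_
  obtain ⟨s, hs, hsY, v, hv, hne⟩ := B.moves
  exact hne (h0 s ⟨hs, hsY⟩ v hv)

end Cfsg.Agent.Omega.NO3b.ZP
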