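import Cfsg.Agent.Omega.NO3b.ZP.Chain.Gam
import Cfsg.Agent.Omega.NO3b.ZP.Chain.NeBlk
import Cfsg.Agent.Omega.NO3b.Chain.Shape

/-!
# The frame of NotFF for `Z ≤ Ω₁(Z(S))`: the blocks of `V(L)` (`Chain/Shape.lean`, helper255)

* `Chain.blk0` (Z-free) : `MX` gives `Blk0`;
* `Stage.hasBlk` : a panel with `⟨Z^H⟩` FF gives `Blk0` for `V = V(L)`, the images `M`, `S` of `M(L)` and `S`;
* `ne_blk` : `ZP/Chain/NeBlk.lean`.
-/

set_option autoImplicit false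

namespace Cfsg.Agent.Omega.NO3b.ZP

open Subgroup Cfsg
open Cfsg.Agent.ZN (o2 zc zl jj zj)
open Cfsg.Agent.ZN.ChoiceBase hiding mem_zc
open Cfsg.Agent.ZN.ChoiceSit (Syl)
open Cfsg.Agent.Omega.MinPar Cfsg.Agent.Omega.Frame Cfsg.Agent.Omega.FrameNOFF
open Cfsg.Agent.Omega.NO3b.EZero (NotFF cl)
open Cfsg.Agent.Omega.NO3b.Exit
open Cfsg.Agent.Omega.NO3b.Exit.Bridge
open Cfsg.Agent.Omega.NO3b.Exit.TDat (MX sbc FFq ncl KV)
open Cfsg.Agent.Omega.NO3b.Exit.BlkZ (Blk0)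
open Cfsg.Agent.Omega.NO3b.Chain (blk0 S2_bar)
open Cfsg.Agent.Omega.FFBr (XX pr im mem_im)
open Cfsg.Agent.MinSimple.VModule (oddGen)
open scoped Pointwise

universe u

variable {G : Type u} [Group G] [Finite G] {S : Sylow 2 G} {Z P L F T X : Subgroup G}

/-- The blocks of `V(L)` in a module `U ≥ V(L)` for a group `H ≥ M(L)`. -/
def HasBlk (S Z L : Subgroup G) {U H : Subgroup G} (hH : H ≤ normalizer (U : Set G))
    (hU : U ≤ centralizer (U : Set G)) : Prop :=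
  ∃ (Y Q BB KV : Subgroup (XX hH)) (F Lw C : AddSubgroup (MU hU)) (x : XX hH),
    Blk0 Y Q BB (ad hU (VL S Z L)) F Lw C x (im hH (ML S Z L)) KV (im hH S)

/-- **(γ)** gives the blocks of `V(L)`. -/
theorem Stage.hasBlk (h : Stage S Z L) (hc : IsCharacteristicTwoType G)
    (f : Fl S (VL (S : Subgroup G) Z L) F T) (hZ : Z ≤ F)
    (p : Par S (VL (S : Subgroup G) Z L) F T X) (hff : ¬ NotFF (UU (S : Subgroup G) Z L X)) :
    HasBlk (S : Subgroup G) Z L (hN (S : Subgroup G) Z L X) (h.cU hc f hZ p) := by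
  obtain ⟨A, x, -, -, -, -, m⟩ := h.exists_mx hc f hZ p hff
  exact ⟨_, _, _, _, _, _, _, _, blk0 m (SM_bar _ h) (S2_bar _) (syl_bar h _ Step.ML_le)
    (gen_bar_stage _ _ h.Zc Step.ML_le Step.V_le)⟩

end Cfsg.Agent.Omega.NO3b.ZP
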