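import Cfsg.Agent.Omega.NO3b.ZP.Chain.Group
import Cfsg.Agent.Omega.NO3b.Chain.ShapeP

/-!
# NotFF (c), local exit, Z'-version: the shape of `⟨Z^P⟩`

`Chain/ShapeP.lean` with `Z ≤ Ω₁(Z(S))` for `Ω₁(Z(S))`. `L` is reached from `P ∈ P*(S)`; `U`, `h : H ≤ N_G(U)`,
`M(L) ≤ H`, `V(L) ≤ U`; `B : Blk0 .. (im h M(L)) KV (im h S)` on `ad V(L)`; `ZV S Z L = C_{V(L)}(S)`.

* `cl_le_odd` : `⟨Z^P⟩ = ⟨Z^{O²(P)}⟩`;
* `pf'` : `PF B (im h O²(P)) (ad ⟨C_{V(L)}(S)^P⟩)` ((MIN), (NE), (CZ)); (CZ) is the hypothesis `hcz`;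
* `gdat'` : `GDat ⟨Z₁^P⟩ O²(P) S` for `Z ≤ Z₁ ≤ C_{V(L)}(S)`;
* `exists_shape'` : `⟨Z₁^P⟩` is the direct product of subgroups `E_j`, irreducible under `P`, pairwise isomorphic as
  `O²(P)`- and as `S`-groups, not centralised by `O²(P)`;
* `pf`, `gdat`, `exists_shape` : the same from `NonLoc P C_G(Ω₁(Z(S)))`.
-/

set_option autoImplicit false

namespace Cfsg.Agent.Omega.NO3b.ZP

open Subgroup Cfsg
open Cfsg.Agent.ZN (o2 zc zl jj zj)
open Cfsg.Agent.ZN.ChoiceBase hiding mem_zc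
open Cfsg.Agent.ZN.ChoiceSit (Syl o2_le_syl)
open Cfsg.Agent.Omega.MinPar Cfsg.Agent.Omega.Frame Cfsg.Agent.Omega.FrameNOFF
open Cfsg.Agent.Omega.NO3b.EZero (NotFF cent_symm oddGen_sup_syl cl le_cl cl_le cj_le_cl le_normalizer_cl)
open Cfsg.Agent.MinSimple.VModule (oddGen oddGen_le le_centralizer_zc mem_zc zc_sq zc_comm le_normalizer_oddGen)
open Cfsg.Agent.Omega.NO3b.Exit.Bridge
open Cfsg.Agent.Omega.NO3b.Exit.LocBar (pr_mem_im im_mono im_smul)
open Cfsg.Agent.Omega.NO3b.Exit.BlkZ (Blk0 PF)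
open Cfsg.Agent.Omega.NO3b.Exit.Descent (ring op op_mem GDat)
open Cfsg.Agent.Omega.FFBr (XX pr im mem_im)
open Cfsg.Agent.Omega.NO3b.Chain (oddGen_sup exists_ring_list pre cent_iff le_normalizer_pre im_le oddGen_le_or)

universe u

variable {G : Type u} [Group G] [Finite G] {S : Sylow 2 G} {Z Z₁ P L : Subgroup G}

/-- `⟨Z^P⟩ = ⟨Z^{O²(P)}⟩` -/
theorem cl_le_odd (hPar : IsPar (S : Subgroup G) P) (hZS : Z ≤ zc (S : Subgroup G)) {A : Subgroup G} (hZ : Z ≤ A)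
    (hO : ∀ o ∈ oddGen P, ∀ a ∈ A, o * a * o⁻¹ ∈ A) : cl Z P ≤ A := by
  refine cl_le fun g hg => ?_
  intro y hy
  obtain ⟨z, hz, rfl⟩ := hy
  have hg : g ∈ oddGen P ⊔ (S : Subgroup G) := by rw [oddGen_sup hPar]; exact hg
  have hn : (S : Subgroup G) ≤ normalizer (oddGen P : Set G) := hPar.le.trans (le_normalizer_oddGen P)
  rw [sup_comm] at hg
  have hn2 : ((oddGen P).subgroupOf ((S : Subgroup G) ⊔ oddGen P)).Normal :=
    normal_subgroupOf_of_le_normalizer (sup_le hn le_normalizer)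
  obtain ⟨o, ho, s, hs, e⟩ : ∃ o ∈ oddGen P, ∃ s ∈ (S : Subgroup G), o * s = g := by
    have h1 : (⟨g, hg⟩ : ((S : Subgroup G) ⊔ oddGen P : Subgroup G)) ∈
        (oddGen P).subgroupOf ((S : Subgroup G) ⊔ oddGen P) ⊔ (S : Subgroup G).subgroupOf ((S : Subgroup G) ⊔ oddGen P) := by
      rw [← subgroupOf_sup le_sup_right le_sup_left, sup_comm (oddGen P), subgroupOf_self]
      trivial
    obtain ⟨a, ha, b, hb, hab⟩ := mem_sup_of_normal_left.1 h1
    exact ⟨a, mem_subgroupOf.1 ha, b, mem_subgroupOf.1 hb, congrArg Subtype.val hab⟩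
  have hsz : s * z = z * s := (mem_zc.1 (hZS hz)).2.1 s hs
  change g * z * g⁻¹ ∈ A
  have e2 : g * z * g⁻¹ = o * z * o⁻¹ := by
    rw [← e]
    calc o * s * z * (o * s)⁻¹ = o * (s * z) * s⁻¹ * o⁻¹ := by group
      _ = o * (z * s) * s⁻¹ * o⁻¹ := by rw [hsz]
      _ = o * z * o⁻¹ := by group
  rw [e2]
  exact hO o ho z (hZ hz)

/-- `C_{V(L)}(S)` -/
def ZV (S Z L : Subgroup G) : Subgroup G := VL S Z L ⊓ centralizer (S : Set G)

theorem ZV_le_zc (hL : Root S Z L) : ZV (S : Subgroup G) Z L ≤ zc (S : Subgroup G) := fun _ hz =>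
  mem_zc_of hL hz.1 hz.2

omit [Finite G] in
theorem le_ZV {S Z : Subgroup G} (hZS : Z ≤ zc S) : Z ≤ ZV S Z L :=
  le_inf (le_cl _ _) (hZS.trans fun _ hz => mem_centralizer_iff.2 fun s hs => (mem_zc.1 hz).2.1 s hs)

variable {H U : Subgroup G} (h : H ≤ normalizer (U : Set G)) {hcU : U ≤ centralizer (U : Set G)}

/-- `P ≤ M(L)` -/
theorem cl_le_VL (hst : Stage S Z L) (hPL : P ≤ L) (hZ₁ : Z₁ ≤ VL (S : Subgroup G) Z L) :
    cl Z₁ P ≤ VL (S : Subgroup G) Z L := cl_le fun x hx => by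
  have h1 := cj_mono x hZ₁
  rwa [cj_eq_of_mem_normalizer (ML_le_norm_V _ _ _ (hst.toRoot.L_le (hPL hx)))] at h1

/-- The part of `P`. -/
theorem pf' (hc : IsCharacteristicTwoType G) (hPar : IsPar (S : Subgroup G) P)
    (hcz : ∀ z ∈ VL (S : Subgroup G) Z L, z ∈ centralizer (P : Set G) → z = 1)
    (hP : Stage S Z P) (r : Reach S Z P L) (hMH : ML (S : Subgroup G) Z L ≤ H)
    (hVU : VL (S : Subgroup G) Z L ≤ U) {Y Q BB KV : Subgroup (XX h)} {F L₀ C : AddSubgroup (MU hcU)} {x : XX h}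
    (B : Blk0 Y Q BB (ad hcU (VL (S : Subgroup G) Z L)) F L₀ C x (im h (ML (S : Subgroup G) Z L)) KV
      (im h (S : Subgroup G))) : PF B (im h (oddGen P)) (ad hcU (cl (ZV (S : Subgroup G) Z L) P)) := by
  have hst := r.stage hc hP
  have hPM : P ≤ ML (S : Subgroup G) Z L := (r.le hc hP).trans hst.toRoot.L_le
  have hPH : P ≤ H := hPM.trans hMH
  have hZS : Z ≤ zc (S : Subgroup G) := hst.toRoot.Zc
  have hZV : ZV (S : Subgroup G) Z L ≤ zc (S : Subgroup G) := ZV_le_zc hst.toRoot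
  have hPV : cl (ZV (S : Subgroup G) Z L) P ≤ VL (S : Subgroup G) Z L :=
    cl_le_VL hst (r.le hc hP) inf_le_left
  have hOV : oddGen P ≤ normalizer (cl (ZV (S : Subgroup G) Z L) P : Set G) :=
    (oddGen_le P).trans (le_normalizer_cl _ _)
  have hne' := ne_im h hc hPar hP r hMH hVU B.YM (fun m hm n hn => B.YM_conj hm hn)
    (fun y hy hyS v hv hvS => B.hX hy hyS hv fun s hs hsY => hvS s ⟨hs, hsY⟩) (by
      intro h0
      obtain ⟨s, hs, hsY, v, hv, hne⟩ := B.moves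
      exact hne (h0 s ⟨hs, hsY⟩ v hv))
  refine
    { OM := im_mono h ((oddGen_le P).trans hPM)
      gen := ?_
      fix := ?_
      VO := fun o ho v hv => im_smul h hOV ho hv
      min := ?_
      ne := ?_
      cz := ?_ }
  · intro W hW hWS
    have h1 : cl (ZV (S : Subgroup G) Z L) P ≤ un W := by
      refine cl_le_odd hPar hZV ?_ ?_
      · intro z hzz
        refine ⟨mk hcU (hVU hzz.1), hWS _ hzz.1 ?_, rfl⟩
        rintro _ ⟨a, ha, rfl⟩
        exact (pr_smul_eq_iff' h).2 ((mem_zc.1 (hZV hzz)).2.1 _ ha)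
      · rintro o ho _ ⟨w, hw, rfl⟩
        exact ⟨_, hW _ (pr_mem_im h ho (hPH (oddGen_le P ho))) w hw, rfl⟩
    intro w hw
    exact val_mem_un.1 (h1 hw)
  · intro z hz hzS
    refine le_cl _ _ (⟨hz, mem_centralizer_iff.2 fun s hs => ?_⟩ : val z ∈ ZV (S : Subgroup G) Z L)
    exact (pr_smul_eq_iff' h).1 (hzS _ (pr_mem_im h hs (hPH (hPar.le hs))))
  · intro N _ hO hS
    have h1 : P ≤ normalizer (pre h N : Set G) := by
      rw [← oddGen_sup hPar]
      exact sup_le (le_normalizer_pre h ((oddGen_le P).trans hPH) hO) (le_normalizer_pre h (hPar.le.trans hPH) hS)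
    rcases oddGen_le_or hc hPar h1 with h2 | h2
    · exact Or.inl (im_le h h2)
    · have h3 : cl (ZV (S : Subgroup G) Z L) P ≤ zl (S : Subgroup G) P :=
        cl_le fun x hx => (cj_mono x hZV).trans (cj_le_cl (V := zc (S : Subgroup G)) hx)
      exact Or.inr fun s hs hsN v hv =>
        (cent_iff h (hPV.trans hVU)).2 (h2.trans (centralizer_le h3)) s ⟨hs, hsN⟩ v hv
  · by_contra hcon
    push Not at hcon
    refine hne'.1 fun s hs v hv => hcon s hs.1 hs.2 v ?_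
    exact cl_le (V := Z) (fun x hx => (cj_mono x (le_ZV (L := L) hZS)).trans (cj_le_cl hx)) hv
  · intro z hz hzS hzO
    have h1 : val z ∈ centralizer (P : Set G) := by
      rw [← oddGen_sup hPar, mem_centralizer_iff]
      have h2 : oddGen P ⊔ (S : Subgroup G) ≤ centralizer ((zpowers (val z) : Subgroup G) : Set G) := by
        refine sup_le ?_ ?_
        · rw [le_centralizer_iff, zpowers_le, mem_centralizer_iff]
          intro o ho
          exact (pr_smul_eq_iff' h).1 (hzO _ (pr_mem_im h ho (hPH (oddGen_le P ho))))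
        · rw [le_centralizer_iff, zpowers_le, mem_centralizer_iff]
          intro s hs
          exact (pr_smul_eq_iff' h).1 (hzS _ (pr_mem_im h hs (hPH (hPar.le hs))))
      intro g hg
      exact (mem_centralizer_iff.1 (h2 hg) _ (mem_zpowers _)).symm
    exact val_inj ((hcz _ hz h1).trans val_zero.symm)

/-- `GDat` for `⟨Z₁^P⟩`, `Z ≤ Z₁ ≤ C_{V(L)}(S)` -/
theorem gdat' (hc : IsCharacteristicTwoType G) (hPar : IsPar (S : Subgroup G) P)
    (hcz : ∀ z ∈ VL (S : Subgroup G) Z L, z ∈ centralizer (P : Set G) → z = 1)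
    (hP : Stage S Z P) (r : Reach S Z P L) (hMH : ML (S : Subgroup G) Z L ≤ H)
    (hVU : VL (S : Subgroup G) Z L ≤ U) {Y Q BB KV : Subgroup (XX h)} {F L₀ C : AddSubgroup (MU hcU)} {x : XX h}
    (B : Blk0 Y Q BB (ad hcU (VL (S : Subgroup G) Z L)) F L₀ C x (im h (ML (S : Subgroup G) Z L)) KV
      (im h (S : Subgroup G))) (hZ₁ : Z₁ ≤ ZV (S : Subgroup G) Z L) :
    GDat (cl Z₁ P) (oddGen P) (S : Subgroup G) := by
  have hst := r.stage hc hP
  have hPM : P ≤ ML (S : Subgroup G) Z L := (r.le hc hP).trans hst.toRoot.L_le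
  have hPH : P ≤ H := hPM.trans hMH
  have hZ₁c : Z₁ ≤ zc (S : Subgroup G) := hZ₁.trans (ZV_le_zc hst.toRoot)
  have hPV : cl Z₁ P ≤ VL (S : Subgroup G) Z L := cl_le_VL hst (r.le hc hP) (hZ₁.trans inf_le_left)
  have hOV : oddGen P ≤ normalizer (cl Z₁ P : Set G) := (oddGen_le P).trans (le_normalizer_cl _ _)
  have p := pf' h hc hPar hcz hP r hMH hVU B
  have hfix : ∀ z (hz : z ∈ cl Z₁ P), z ∈ centralizer ((S : Subgroup G) : Set G) →
      ∀ s ∈ im h (S : Subgroup G), s • (mk hcU (hVU (hPV hz))) = mk hcU (hVU (hPV hz)) := by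
    rintro z hz hzS _ ⟨a, ha, rfl⟩
    exact (pr_smul_eq_iff' h).2 (mem_centralizer_iff.1 hzS _ ha)
  exact
    { comm := hPV.trans (hst.toRoot.V_comm.trans (centralizer_le hPV))
      sq := fun v hv => by rw [← sq]; exact hst.toRoot.V_sq v (hPV hv)
      two := S.isPGroup'
      SV := hPar.le.trans (le_normalizer_cl _ _)
      XV := hOV
      SX := hPar.le.trans (le_normalizer_oddGen P)
      gen := by
        intro A hAV hOA hZA
        refine le_antisymm hAV (cl_le_odd hPar hZ₁c ?_ fun o ho a ha => (mem_normalizer_iff.1 (hOA ho) a).1 ha)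
        intro z hz
        exact hZA ⟨le_cl _ _ hz, mem_centralizer_iff.2 fun s hs => (mem_zc.1 (hZ₁c hz)).2.1 s hs⟩
      ann := by
        intro z z' hz hz1 hzS hz' hzS' l hl h0
        obtain ⟨c, hcK, h1⟩ := exists_ring_list (hcU := hcU) h ((oddGen_le P).trans hPH)
          (p.O_le.trans B.YM_le) l hl
        have h2 := p.ann (z := mk hcU (hVU (hPV hz))) (z' := mk hcU (hVU (hPV hz'))) (hPV hz)
          (fun h3 => hz1 (congrArg val h3)) (hfix z hz hzS) (hPV hz') (hfix z' hz' hzS') hcK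
          (val_inj (by rw [h1]; exact h0))
        have h3 := congrArg val h2
        rw [h1] at h3
        exact h3 }

/-- **The shape of `⟨Z₁^P⟩`**, `1 ≠ Z₁ ≤ C_{V(L)}(S)`. -/
theorem exists_shape' (hc : IsCharacteristicTwoType G) (hPar : IsPar (S : Subgroup G) P)
    (hcz : ∀ z ∈ VL (S : Subgroup G) Z L, z ∈ centralizer (P : Set G) → z = 1)
    (hP : Stage S Z P) (r : Reach S Z P L) (hMH : ML (S : Subgroup G) Z L ≤ H)
    (hVU : VL (S : Subgroup G) Z L ≤ U) {Y Q BB KV : Subgroup (XX h)} {F L₀ C : AddSubgroup (MU hcU)} {x : XX h}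
    (B : Blk0 Y Q BB (ad hcU (VL (S : Subgroup G) Z L)) F L₀ C x (im h (ML (S : Subgroup G) Z L)) KV
      (im h (S : Subgroup G))) (hZ₁ : Z₁ ≤ ZV (S : Subgroup G) Z L) (hne₁ : Z₁ ≠ ⊥) :
    ∃ (k : ℕ) (E : Fin k → Subgroup G), 0 < k ∧ iSupIndep E ∧ (⨆ j, E j) = cl Z₁ P ∧
      (∀ j, P ≤ normalizer (E j : Set G)) ∧
      (∀ j, ∀ A : Subgroup G, A ≤ E j → P ≤ normalizer (A : Set G) → A = ⊥ ∨ A = E j) ∧
      (∀ j, ¬ E j ≤ centralizer (oddGen P : Set G)) ∧
      ∀ i j, ∃ f : E i ≃* E j, (∀ y ∈ oddGen P, ∀ v w : E i, (w : G) = y * v * y⁻¹ → (f w : G) = y * f v * y⁻¹) ∧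
        ∀ s ∈ (S : Subgroup G), ∀ v w : E i, (w : G) = s * v * s⁻¹ → (f w : G) = s * f v * s⁻¹ := by
  have hst := r.stage hc hP
  obtain ⟨k, E, h1, h2, h3, h4, h5, h6, h7, h8⟩ := (gdat' h hc hPar hcz hP r hMH hVU B hZ₁).exists_pow
  have hPE : ∀ j, P ≤ normalizer (E j : Set G) := by
    intro j
    have h9 : oddGen P ⊔ (S : Subgroup G) ≤ normalizer (E j : Set G) := sup_le (h5 j) (h6 j)
    rwa [oddGen_sup hPar] at h9
  have hPV : cl Z₁ P ≤ VL (S : Subgroup G) Z L := cl_le_VL hst (r.le hc hP) (hZ₁.trans inf_le_left)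
  refine ⟨k, E, ?_, h2, h3, hPE, ?_, ?_, h8⟩
  · rcases Nat.eq_zero_or_pos k with rfl | h0
    · exfalso
      apply hne₁
      rw [iSup_of_empty] at h3
      exact le_bot_iff.1 ((le_cl _ _).trans h3.ge)
    · exact h0
  · intro j A hA hPA
    by_cases hA1 : A = ⊥
    · exact Or.inl hA1
    · exact Or.inr (h7 j A hA hA1 ((oddGen_le P).trans hPA) (hPar.le.trans hPA))
  · intro j hcen
    -- a fixed point of `S` on `E j`
    have hE2 : IsPGroup 2 (E j) := fun x => ⟨1, Subtype.ext (by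
      have h9 := hst.toRoot.V_sq x (hPV (h1 j x.2))
      simpa using h9)⟩
    have h9 := PLocal.OffenderStep.inf_centralizer_ne_bot (E j) (S : Subgroup G) hE2 S.isPGroup' (h6 j) (h4 j)
    obtain ⟨z, hz1⟩ := Subgroup.ne_bot_iff_exists_ne_one.1 h9
    apply hz1
    refine Subtype.ext (hcz z (hPV (h1 j (mem_inf.1 z.2).1)) ?_)
    rw [mem_centralizer_iff]
    have h10 : oddGen P ⊔ (S : Subgroup G) ≤ centralizer ((zpowers (z : G) : Subgroup G) : Set G) := by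
      refine sup_le ?_ ?_
      · rw [le_centralizer_iff, zpowers_le]
        exact hcen (mem_inf.1 z.2).1
      · rw [le_centralizer_iff, zpowers_le]
        exact (mem_inf.1 z.2).2
    rw [oddGen_sup hPar] at h10
    intro g hg
    exact (mem_centralizer_iff.1 (h10 hg) _ (mem_zpowers _)).symm

/-- (CZ) from `NonLoc P C_G(Ω₁(Z(S)))` -/
theorem cz_of_nonLoc (hPar : IsPar (S : Subgroup G) P) (hn : NonLoc P (CZ (S : Subgroup G))) (hL : Root S Z L) :
    ∀ z ∈ VL (S : Subgroup G) Z L, z ∈ centralizer (P : Set G) → z = 1 := by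
  intro z hz hzP
  have hzc : z ∈ zc (S : Subgroup G) := mem_zc_of hL hz (centralizer_le hPar.le hzP)
  have h10 : P ≤ centralizer ((zpowers z : Subgroup G) : Set G) := by
    rw [le_centralizer_iff, zpowers_le]
    exact hzP
  have h11 := hn (zpowers z) (S.isPGroup'.to_le ((zpowers_le.2 hzc).trans
    (MinSimple.VModule.zc_le _))) (h10.trans (centralizer_le_normalizer _)) (by
      refine le_trans ?_ (centralizer_le_normalizer _)
      exact centralizer_le (zpowers_le.2 hzc))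
  rwa [zpowers_eq_bot] at h11

/-- The part of `P`. -/
theorem pf (hc : IsCharacteristicTwoType G) (hPar : IsPar (S : Subgroup G) P)
    (hn : NonLoc P (CZ (S : Subgroup G))) (hP : Stage S Z P) (r : Reach S Z P L)
    (hMH : ML (S : Subgroup G) Z L ≤ H) (hVU : VL (S : Subgroup G) Z L ≤ U) {Y Q BB KV : Subgroup (XX h)}
    {F L₀ C : AddSubgroup (MU hcU)} {x : XX h}
    (B : Blk0 Y Q BB (ad hcU (VL (S : Subgroup G) Z L)) F L₀ C x (im h (ML (S : Subgroup G) Z L)) KV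
      (im h (S : Subgroup G))) : PF B (im h (oddGen P)) (ad hcU (cl (ZV (S : Subgroup G) Z L) P)) :=
  pf' h hc hPar (cz_of_nonLoc hPar hn (r.stage hc hP).toRoot) hP r hMH hVU B

/-- `GDat` for `⟨Z^P⟩` -/
theorem gdat (hc : IsCharacteristicTwoType G) (hPar : IsPar (S : Subgroup G) P)
    (hn : NonLoc P (CZ (S : Subgroup G))) (hP : Stage S Z P) (r : Reach S Z P L)
    (hMH : ML (S : Subgroup G) Z L ≤ H) (hVU : VL (S : Subgroup G) Z L ≤ U) {Y Q BB KV : Subgroup (XX h)}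
    {F L₀ C : AddSubgroup (MU hcU)} {x : XX h}
    (B : Blk0 Y Q BB (ad hcU (VL (S : Subgroup G) Z L)) F L₀ C x (im h (ML (S : Subgroup G) Z L)) KV
      (im h (S : Subgroup G))) : GDat (cl Z P) (oddGen P) (S : Subgroup G) :=
  gdat' h hc hPar (cz_of_nonLoc hPar hn (r.stage hc hP).toRoot) hP r hMH hVU B
    (le_ZV (r.stage hc hP).toRoot.Zc)

/-- **The shape of `⟨Z^P⟩`.** -/
theorem exists_shape (hc : IsCharacteristicTwoType G) (hPar : IsPar (S : Subgroup G) P)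
    (hn : NonLoc P (CZ (S : Subgroup G))) (hP : Stage S Z P) (r : Reach S Z P L)
    (hMH : ML (S : Subgroup G) Z L ≤ H) (hVU : VL (S : Subgroup G) Z L ≤ U) {Y Q BB KV : Subgroup (XX h)}
    {F L₀ C : AddSubgroup (MU hcU)} {x : XX h}
    (B : Blk0 Y Q BB (ad hcU (VL (S : Subgroup G) Z L)) F L₀ C x (im h (ML (S : Subgroup G) Z L)) KV
      (im h (S : Subgroup G))) :
    ∃ (k : ℕ) (E : Fin k → Subgroup G), 0 < k ∧ iSupIndep E ∧ (⨆ j, E j) = cl Z P ∧
      (∀ j, P ≤ normalizer (E j : Set G)) ∧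
      (∀ j, ∀ A : Subgroup G, A ≤ E j → P ≤ normalizer (A : Set G) → A = ⊥ ∨ A = E j) ∧
      (∀ j, ¬ E j ≤ centralizer (oddGen P : Set G)) ∧
      ∀ i j, ∃ f : E i ≃* E j, (∀ y ∈ oddGen P, ∀ v w : E i, (w : G) = y * v * y⁻¹ → (f w : G) = y * f v * y⁻¹) ∧
        ∀ s ∈ (S : Subgroup G), ∀ v w : E i, (w : G) = s * v * s⁻¹ → (f w : G) = s * f v * s⁻¹ :=
  exists_shape' h hc hPar (cz_of_nonLoc hPar hn (r.stage hc hP).toRoot) hP r hMH hVU B
    (le_ZV (r.stage hc hP).toRoot.Zc) hP.toRoot.Zne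

end Cfsg.Agent.Omega.NO3b.ZP
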