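import Cfsg.Agent.Omega.NO3b.ZP.Chain.NeBlk
import Cfsg.Agent.Omega.NO3b.ZP.Chain.ShapeP
import Cfsg.Agent.Omega.NO3b.ZP.Chain.BlkW
import Cfsg.Agent.Omega.NO3b.Chain.ShapeTwo

/-!
# The frame of NotFF for `Z ≤ Ω₁(Z(S))`: the shape of `⟨Z^P⟩`, `k ≥ 2` (`Chain/ShapeTwo.lean`, helper255)

* `ff_of_irr_of` : if `⟨Z^P⟩` is irreducible under `P`, then `⟨Z^P⟩` is FF (from `PF` for any `V_P`; `ZP/Chain/BlkW.lean`);
* `ff_of_irr`, `ff_of_irr'` : the same with (CZ) from `NonLoc` resp. as a hypothesis;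
* **`exists_shape_two`**, `exists_shape_two'` : `⟨Z^P⟩` is the direct product of `k ≥ 2` subgroups `E_j`, irreducible
  under `P`, pairwise isomorphic as `O²(P)`- and as `S`-groups, not centralised by `O²(P)`.
-/

set_option autoImplicit false

namespace Cfsg.Agent.Omega.NO3b.ZP

open Subgroup Cfsg
open Cfsg.Agent.ZN (o2 zc zl jj zj)
open Cfsg.Agent.ZN.ChoiceBase hiding mem_zc
open Cfsg.Agent.ZN.ChoiceSit (Syl o2_le_syl)
open Cfsg.Agent.Omega.MinPar Cfsg.Agent.Omega.Frame Cfsg.Agent.Omega.FrameNOFF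
open Cfsg.Agent.Omega.NO3b.EZero (NotFF cent_symm oddGen_sup_syl cl le_cl cj_le_cl cl_le le_normalizer_cl)
open Cfsg.Agent.Omega.NO3b.Chain (pre mem_pre oddGen_sup relIndex_le_card card_le_relIndex)
open Cfsg.Agent.MinSimple.VModule (oddGen oddGen_le le_normalizer_zl zl_le le_centralizer_zc mem_zc zc_le_zl zc_sq
  zc_comm le_normalizer_oddGen)
open Cfsg.Agent.Omega.NO3b.Exit.Bridge
open Cfsg.Agent.Omega.NO3b.Exit.LocBar (pr_mem_im im_mono im_smul im_conj)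
open Cfsg.Agent.Omega.NO3b.Exit.BlkZ (Blk0 PF)
open Cfsg.Agent.Omega.NO3b.Exit.Descent (ring op op_mem GDat orb mem_orb self_mem smul_mem_orb smul_mem_orb' orb_le)
open Cfsg.Agent.Omega.FFBr (XX pr im mem_im)

universe u v

variable {G : Type u} [Group G]

variable [Finite G] {S : Sylow 2 G} {Z P L : Subgroup G}
variable {H U : Subgroup G} (h : H ≤ normalizer (U : Set G)) {hcU : U ≤ centralizer (U : Set G)}

/-- **If `⟨Z^P⟩` is irreducible under `P`, then `⟨Z^P⟩` is FF.** -/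
theorem ff_of_irr_of (hc : IsCharacteristicTwoType G) (hPar : IsPar (S : Subgroup G) P)
    (hP : Stage S Z P) (r : Reach S Z P L) (hMH : ML (S : Subgroup G) Z L ≤ H)
    (hVU : VL (S : Subgroup G) Z L ≤ U) {Y Q BB KV : Subgroup (XX h)} {F L₀ C : AddSubgroup (MU hcU)} {x : XX h}
    (B : Blk0 Y Q BB (ad hcU (VL (S : Subgroup G) Z L)) F L₀ C x (im h (ML (S : Subgroup G) Z L)) KV
      (im h (S : Subgroup G))) {VP : AddSubgroup (MU hcU)} (p : PF B (im h (oddGen P)) VP)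
    (irr : ∀ A : Subgroup G, A ≤ cl Z P → P ≤ normalizer (A : Set G) →
      A = ⊥ ∨ A = cl Z P) : False := by
  have hst := r.stage hc hP
  have hPM : P ≤ ML (S : Subgroup G) Z L := (r.le hc hP).trans hst.toRoot.L_le
  have hPH : P ≤ H := hPM.trans hMH
  have hSH : (S : Subgroup G) ≤ H := hPar.le.trans hPH
  have hPV : cl Z P ≤ VL (S : Subgroup G) Z L := Stage.zl_le_of_le hst.toRoot (r.le hc hP)
  have hOV : oddGen P ≤ normalizer (cl Z P : Set G) := (oddGen_le P).trans (le_normalizer_cl _ _)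
  obtain ⟨z, hz, hz1⟩ := (Subgroup.bot_or_exists_ne_one Z).resolve_left hP.Zne
  have hzP : z ∈ cl Z P := le_cl _ _ hz
  have hmove : ∃ s ∈ im h (S : Subgroup G), s ∈ B.YM ∧ ∃ v ∈ ad hcU (cl Z P), s • v ≠ v := by
    by_contra hcon
    push Not at hcon
    exact (ne_blk hc hPar hP r hMH hVU B).1 fun s hs v hv => hcon s hs.1 hs.2 v hv
  let w : MU hcU := mk hcU (hVU (hPV hzP))
  have hw0 : w ≠ 0 := fun h0 => hz1 (congrArg val h0)
  have hwS : ∀ s ∈ im h (S : Subgroup G), s • w = w := by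
    rintro _ ⟨a, ha, rfl⟩
    exact (pr_smul_eq_iff' h).2 ((mem_zc.1 (hP.Zc hz)).2.1 _ ha)
  have hgen : ∀ v ∈ ad hcU (cl Z P), ∃ c ∈ ring (MU hcU) (im h (oddGen P)), c w = v := by
    have hinv : ∀ g (hg : g ∈ P), ∀ v ∈ orb (im h (oddGen P)) w,
        pr h ⟨g, hPH hg⟩ • v ∈ orb (im h (oddGen P)) w := by
      intro g hg
      have hO : ∀ o (ho : o ∈ oddGen P), ∀ v ∈ orb (im h (oddGen P)) w,
          pr h ⟨o, hPH (oddGen_le P ho)⟩ • v ∈ orb (im h (oddGen P)) w := fun o ho v hv =>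
        smul_mem_orb (pr_mem_im h ho _) hv
      have hS : ∀ s (hs : s ∈ (S : Subgroup G)), ∀ v ∈ orb (im h (oddGen P)) w,
          pr h ⟨s, hSH hs⟩ • v ∈ orb (im h (oddGen P)) w := fun s hs v hv =>
        smul_mem_orb' (fun y hy => im_conj h (hPar.le.trans (le_normalizer_oddGen P)) (pr_mem_im h hs _) hy)
          (hwS _ (pr_mem_im h hs _)) hv
      let R : Subgroup G :=
        { carrier := {g | ∃ hg : g ∈ H, (∀ v ∈ orb (im h (oddGen P)) w, pr h ⟨g, hg⟩ • v ∈ orb (im h (oddGen P)) w) ∧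
            ∀ v ∈ orb (im h (oddGen P)) w, (pr h ⟨g, hg⟩)⁻¹ • v ∈ orb (im h (oddGen P)) w}
          one_mem' := by
            refine ⟨one_mem _, fun v hv => ?_, fun v hv => ?_⟩
            · have e : (⟨1, one_mem _⟩ : H) = 1 := rfl
              rw [e, map_one, one_smul]; exact hv
            · have e : (⟨1, one_mem _⟩ : H) = 1 := rfl
              rw [e, map_one, inv_one, one_smul]; exact hv
          mul_mem' := by
            rintro a b ⟨ha, ha1, ha2⟩ ⟨hb, hb1, hb2⟩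
            have e : (⟨a * b, mul_mem ha hb⟩ : H) = ⟨a, ha⟩ * ⟨b, hb⟩ := rfl
            refine ⟨mul_mem ha hb, fun v hv => ?_, fun v hv => ?_⟩
            · rw [e, map_mul, mul_smul]; exact ha1 _ (hb1 v hv)
            · rw [e, map_mul, mul_inv_rev, mul_smul]; exact hb2 _ (ha2 v hv)
          inv_mem' := by
            rintro a ⟨ha, ha1, ha2⟩
            have e : (⟨a⁻¹, inv_mem ha⟩ : H) = (⟨a, ha⟩ : H)⁻¹ := rfl
            refine ⟨inv_mem ha, fun v hv => ?_, fun v hv => ?_⟩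
            · rw [e, map_inv]; exact ha2 v hv
            · rw [e, map_inv, inv_inv]; exact ha1 v hv }
      have hR : P ≤ R := by
        rw [← oddGen_sup hPar]
        refine sup_le (fun o ho => ⟨hPH (oddGen_le P ho), hO o ho, fun v hv => ?_⟩)
          fun s hs => ⟨hSH hs, hS s hs, fun v hv => ?_⟩
        · rw [← map_inv]
          exact hO o⁻¹ (inv_mem ho) v hv
        · rw [← map_inv]
          exact hS s⁻¹ (inv_mem hs) v hv
      obtain ⟨_, h1, -⟩ := hR hg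
      exact h1
    have hle : un (orb (im h (oddGen P)) w) ≤ cl Z P := by
      rintro _ ⟨v, hv, rfl⟩
      have h1 : orb (im h (oddGen P)) w ≤ ad hcU (cl Z P) :=
        orb_le (fun y hy v hv => im_smul h hOV hy hv) hzP
      exact h1 hv
    have h2 : P ≤ normalizer (un (orb (im h (oddGen P)) w) : Set G) := by
      have key : ∀ g ∈ P, ∀ y ∈ un (orb (im h (oddGen P)) w), g * y * g⁻¹ ∈ un (orb (im h (oddGen P)) w) := by
        rintro g hg _ ⟨v, hv, rfl⟩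
        exact ⟨_, hinv g hg v hv, rfl⟩
      intro g hg
      rw [mem_normalizer_iff]
      intro y
      refine ⟨key g hg y, fun h3 => ?_⟩
      have h4 := key g⁻¹ (inv_mem hg) _ h3
      have e : g⁻¹ * (g * y * g⁻¹) * g⁻¹⁻¹ = y := by group
      rwa [e] at h4
    have h3 := (irr _ hle h2).resolve_left (by
      intro h0
      have h4 : z ∈ un (orb (im h (oddGen P)) w) := ⟨w, self_mem _ w, rfl⟩
      rw [h0] at h4
      exact hz1 (mem_bot.1 h4))
    intro v hv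
    have h4 : val v ∈ un (orb (im h (oddGen P)) w) := by rw [h3]; exact hv
    exact mem_orb.1 (val_mem_un.1 h4)
  obtain ⟨Θ, X1, X2, hf1, hf2, γ, δ, hcard, hΘS, ⟨θ, hθ, v, hv, hne1⟩, hsq, hcomm, hγ, hδs, hδ⟩ :=
    p.exists_ff_of (fun v hv => hPV hv) hmove (z := w) (hPV hzP) hw0 hwS hgen
  -- the group
  let A : Subgroup G := (S : Subgroup G) ⊓ pre h Θ
  have hAS : A ≤ (S : Subgroup G) := inf_le_left
  have hAH : ∀ a ∈ A, ∃ ha : a ∈ H, pr h ⟨a, ha⟩ ∈ Θ := fun a ha => (mem_pre h).1 ha.2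
  have hmk : ∀ y ∈ cl Z P, ∀ hy : y ∈ U, mk hcU hy ∈ ad hcU (cl Z P) := fun y hy _ => hy
  have hexA : ∀ θ ∈ Θ, ∃ a ∈ A, ∃ ha : a ∈ H, pr h ⟨a, ha⟩ = θ := by
    intro θ hθ
    obtain ⟨a, ha, e⟩ := hΘS hθ
    exact ⟨a, ⟨ha, (mem_pre h).2 ⟨a.2, by rw [← e] at hθ; exact hθ⟩⟩, a.2, e⟩
  have hcen : ∀ a (ha : a ∈ H), (∀ v ∈ ad hcU (cl Z P), pr h ⟨a, ha⟩ • v = v) →
      a ∈ centralizer (cl Z P : Set G) := by
    intro a ha h1
    rw [mem_centralizer_iff]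
    intro y hy
    exact ((pr_smul_eq_iff' h).1 (h1 (mk hcU (hVU (hPV hy))) hy)).symm
  have hnff := hP.nff A (S.isPGroup'.to_le hAS) ((hAS.trans hPar.le).trans (le_normalizer_cl _ _))
    (fun a ha => by
      obtain ⟨haH, h1⟩ := hAH a ha
      rw [pow_two]
      refine hcen (a * a) (mul_mem haH haH) fun v hv => ?_
      have e : (⟨a * a, mul_mem haH haH⟩ : H) = ⟨a, haH⟩ * ⟨a, haH⟩ := rfl
      rw [e, map_mul]
      exact hsq _ h1 v hv)
    (fun a ha b hb => by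
      obtain ⟨haH, h1⟩ := hAH a ha
      obtain ⟨hbH, h2⟩ := hAH b hb
      refine hcen (a * b * a⁻¹ * b⁻¹) (mul_mem (mul_mem (mul_mem haH hbH) (inv_mem haH)) (inv_mem hbH)) fun v hv => ?_
      have e : (⟨a * b * a⁻¹ * b⁻¹, mul_mem (mul_mem (mul_mem haH hbH) (inv_mem haH)) (inv_mem hbH)⟩ : H) =
        ⟨a, haH⟩ * ⟨b, hbH⟩ * ⟨a, haH⟩⁻¹ * ⟨b, hbH⟩⁻¹ := rfl
      rw [e, map_mul, map_mul, map_mul, map_inv, map_inv]
      exact hcomm _ h1 _ h2 v hv)
    (by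
      intro h1
      apply hne1
      obtain ⟨a, ha, haH, rfl⟩ := hexA θ hθ
      exact (pr_smul_eq_iff' h).2 (mem_centralizer_iff.1 (h1 ha) _ hv).symm)
  have h1 : (centralizer (A : Set G)).relIndex (cl Z P) ≤ Nat.card X1 := by
    refine relIndex_le_card (fun y : cl Z P => γ (mk hcU (hVU (hPV y.2)))) fun y y' e => ?_
    rw [mem_centralizer_iff]
    intro a ha
    obtain ⟨haH, h3⟩ := hAH a ha
    have h4 := hγ (mk hcU (hVU (hPV y.2))) y.2 (mk hcU (hVU (hPV y'.2))) y'.2 e _ h3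
    have h5 := (pr_smul_eq_iff' h).1 h4
    rw [val_sub, val_mk, val_mk] at h5
    -- `a (y y'⁻¹) = (y y'⁻¹) a`; `y⁻¹ y' = (y y'⁻¹)⁻¹` as `V_P` is abelian
    have h6 : (y : G)⁻¹ * y' = ((y : G) * (y' : G)⁻¹)⁻¹ := by
      rw [mul_inv_rev, inv_inv]
      have h7 := mem_centralizer_iff.1 (hP.comm (inv_mem y.2)) _ y'.2
      exact h7.symm
    rw [h6]
    have h8 : a ∈ centralizer ({(y : G) * (y' : G)⁻¹} : Set G) := mem_centralizer_singleton_iff.2 h5
    have h9 : (((y : G) * (y' : G)⁻¹)⁻¹) ∈ centralizer ({a} : Set G) :=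
      inv_mem (mem_centralizer_singleton_iff.2 (mem_centralizer_singleton_iff.1 h8).symm)
    exact (mem_centralizer_singleton_iff.1 h9).symm
  have h2 : Nat.card X2 ≤ (centralizer (cl Z P : Set G)).relIndex A := by
    refine card_le_relIndex (fun a : A => δ (pr h ⟨a, (hAH a a.2).1⟩)) (fun x => ?_) fun a b hab => ?_
    · obtain ⟨θ', hθ', rfl⟩ := hδs x
      obtain ⟨a, ha, haH, e⟩ := hexA θ' hθ'
      exact ⟨⟨a, ha⟩, by change δ (pr h ⟨a, _⟩) = _; rw [e]⟩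
    · obtain ⟨haH, h3⟩ := hAH a a.2
      obtain ⟨hbH, h4⟩ := hAH b b.2
      refine hδ _ h3 _ h4 fun v hv => ?_
      have h5 : (pr h ⟨(a : G)⁻¹ * b, mul_mem (inv_mem haH) hbH⟩) • v = v :=
        (pr_smul_eq_iff' h).2 (mem_centralizer_iff.1 hab _ hv).symm
      have e : (⟨(a : G)⁻¹ * b, mul_mem (inv_mem haH) hbH⟩ : H) = (⟨a, haH⟩ : H)⁻¹ * ⟨b, hbH⟩ := rfl
      rw [e, map_mul, map_inv, mul_smul, inv_smul_eq_iff] at h5
      exact h5.symm
  omega

/-- `ff_of_irr_of` with (CZ) as a hypothesis -/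
theorem ff_of_irr' (hc : IsCharacteristicTwoType G) (hPar : IsPar (S : Subgroup G) P)
    (hcz : ∀ z ∈ VL (S : Subgroup G) Z L, z ∈ centralizer (P : Set G) → z = 1)
    (hP : Stage S Z P) (r : Reach S Z P L) (hMH : ML (S : Subgroup G) Z L ≤ H)
    (hVU : VL (S : Subgroup G) Z L ≤ U) {Y Q BB KV : Subgroup (XX h)} {F L₀ C : AddSubgroup (MU hcU)} {x : XX h}
    (B : Blk0 Y Q BB (ad hcU (VL (S : Subgroup G) Z L)) F L₀ C x (im h (ML (S : Subgroup G) Z L)) KV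
      (im h (S : Subgroup G)))
    (irr : ∀ A : Subgroup G, A ≤ cl Z P → P ≤ normalizer (A : Set G) → A = ⊥ ∨ A = cl Z P) : False :=
  ff_of_irr_of h hc hPar hP r hMH hVU B (pf' h hc hPar hcz hP r hMH hVU B) irr

/-- **If `⟨Z^P⟩` is irreducible under `P`, then `⟨Z^P⟩` is FF.** -/
theorem ff_of_irr (hc : IsCharacteristicTwoType G) (hPar : IsPar (S : Subgroup G) P)
    (hn : NonLoc P (CZ (S : Subgroup G)))
    (hP : Stage S Z P) (r : Reach S Z P L) (hMH : ML (S : Subgroup G) Z L ≤ H)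
    (hVU : VL (S : Subgroup G) Z L ≤ U) {Y Q BB KV : Subgroup (XX h)} {F L₀ C : AddSubgroup (MU hcU)} {x : XX h}
    (B : Blk0 Y Q BB (ad hcU (VL (S : Subgroup G) Z L)) F L₀ C x (im h (ML (S : Subgroup G) Z L)) KV
      (im h (S : Subgroup G)))
    (irr : ∀ A : Subgroup G, A ≤ cl Z P → P ≤ normalizer (A : Set G) → A = ⊥ ∨ A = cl Z P) : False :=
  ff_of_irr_of h hc hPar hP r hMH hVU B (pf h hc hPar hn hP r hMH hVU B) irr

/-- **The shape of `⟨Z^P⟩`**, (CZ) as a hypothesis -/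
theorem exists_shape_two' (hc : IsCharacteristicTwoType G) (hPar : IsPar (S : Subgroup G) P)
    (hcz : ∀ z ∈ VL (S : Subgroup G) Z L, z ∈ centralizer (P : Set G) → z = 1)
    (hP : Stage S Z P) (r : Reach S Z P L) (hMH : ML (S : Subgroup G) Z L ≤ H)
    (hVU : VL (S : Subgroup G) Z L ≤ U) {Y Q BB KV : Subgroup (XX h)} {F L₀ C : AddSubgroup (MU hcU)} {x : XX h}
    (B : Blk0 Y Q BB (ad hcU (VL (S : Subgroup G) Z L)) F L₀ C x (im h (ML (S : Subgroup G) Z L)) KV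
      (im h (S : Subgroup G))) :
    ∃ (k : ℕ) (E : Fin k → Subgroup G), 2 ≤ k ∧ iSupIndep E ∧ (⨆ j, E j) = cl Z P ∧
      (∀ j, P ≤ normalizer (E j : Set G)) ∧
      (∀ j, ∀ A : Subgroup G, A ≤ E j → P ≤ normalizer (A : Set G) → A = ⊥ ∨ A = E j) ∧
      (∀ j, ¬ E j ≤ centralizer (oddGen P : Set G)) ∧
      ∀ i j, ∃ f : E i ≃* E j, (∀ y ∈ oddGen P, ∀ v w : E i, (w : G) = y * v * y⁻¹ → (f w : G) = y * f v * y⁻¹) ∧
        ∀ s ∈ (S : Subgroup G), ∀ v w : E i, (w : G) = s * v * s⁻¹ → (f w : G) = s * f v * s⁻¹ := by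
  obtain ⟨k, E, h0, h1, h2, h3, h4, h5, h6⟩ :=
    exists_shape' h hc hPar hcz hP r hMH hVU B (le_ZV (r.stage hc hP).toRoot.Zc) hP.Zne
  refine ⟨k, E, ?_, h1, h2, h3, h4, h5, h6⟩
  by_contra hk
  have hk1 : k = 1 := by omega
  subst hk1
  have e : E 0 = cl Z P := by
    rw [← h2]
    exact (iSup_unique (f := E)).symm
  refine ff_of_irr' h hc hPar hcz hP r hMH hVU B fun A hA hPA => ?_
  rw [← e] at hA ⊢
  exact h4 0 A hA hPA

/-- **The shape of `⟨Z^P⟩`.** -/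
theorem exists_shape_two (hc : IsCharacteristicTwoType G) (hPar : IsPar (S : Subgroup G) P)
    (hn : NonLoc P (CZ (S : Subgroup G)))
    (hP : Stage S Z P) (r : Reach S Z P L) (hMH : ML (S : Subgroup G) Z L ≤ H)
    (hVU : VL (S : Subgroup G) Z L ≤ U) {Y Q BB KV : Subgroup (XX h)} {F L₀ C : AddSubgroup (MU hcU)} {x : XX h}
    (B : Blk0 Y Q BB (ad hcU (VL (S : Subgroup G) Z L)) F L₀ C x (im h (ML (S : Subgroup G) Z L)) KV
      (im h (S : Subgroup G))) :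
    ∃ (k : ℕ) (E : Fin k → Subgroup G), 2 ≤ k ∧ iSupIndep E ∧ (⨆ j, E j) = cl Z P ∧
      (∀ j, P ≤ normalizer (E j : Set G)) ∧
      (∀ j, ∀ A : Subgroup G, A ≤ E j → P ≤ normalizer (A : Set G) → A = ⊥ ∨ A = E j) ∧
      (∀ j, ¬ E j ≤ centralizer (oddGen P : Set G)) ∧
      ∀ i j, ∃ f : E i ≃* E j, (∀ y ∈ oddGen P, ∀ v w : E i, (w : G) = y * v * y⁻¹ → (f w : G) = y * f v * y⁻¹) ∧
        ∀ s ∈ (S : Subgroup G), ∀ v w : E i, (w : G) = s * v * s⁻¹ → (f w : G) = s * f v * s⁻¹ :=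
  exists_shape_two' h hc hPar (cz_of_nonLoc hPar hn (r.stage hc hP).toRoot) hP r hMH hVU B

end Cfsg.Agent.Omega.NO3b.ZP
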