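import Cfsg.Agent.Omega.NO3b.ZP.Chain.Frame
import Cfsg.Agent.Omega.NO3b.Closed.GeoOf
import Cfsg.Agent.Omega.NO3b.Chain.ToGeo

/-!
# The frame of NotFF for `Z ≤ Ω₁(Z(S))`: `(L, ⟨Z^L⟩)` is a pair for #19499 (`Chain/ToGeo.lean`)

`Stage S Z L`, `⟨L, C_G(Z)⟩` nonlocal, `C_{Ω₁(Z(S))}(C_G(⟨Z^L⟩)) = Z` (helper133 #21097, helper260 `Frm.fixY`).

* `Stage.hz` : (HZ) for `⟨Z^L⟩`; `Stage.geo` : `ClosedPt.Geo S Z ⟨Z^L⟩ L`;
* `SHZ` : `⟨Z^L⟩ = ⨁ E_j`, `k ≥ 2`, `E_j` irreducible under `P ≤ L` (`Chain.SH`);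
* `good_of_shz` : good sets for all closed points; `exists_out` : a pair (closed point, exact end).
-/

set_option autoImplicit false

namespace Cfsg.Agent.Omega.NO3b.ZP

open Subgroup Cfsg
open Cfsg.Agent.ZN (o2 zc zl)
open Cfsg.Agent.ZN.ChoiceBase hiding mem_zc
open Cfsg.Agent.ZN.ChoiceSit (Syl o2_le_syl)
open Cfsg.Agent.MinSimple.EmptyTI (syl_of_le)
open Cfsg.Agent.MinSimple.MinParabolic (IsMinPar)
open Cfsg.Agent.Omega.MinPar Cfsg.Agent.Omega.Frame Cfsg.Agent.Omega.FrameNOFF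
open Cfsg.Agent.Omega.NO3b.EZero (NotFF cl cl_le le_cl cj_le_cl cent_symm le_normalizer_cl)
open Cfsg.Agent.Omega.NO3b.ClosedPt (Flag Clo Geo GoodAt End Out)
open Cfsg.Agent.Omega.ML.Final (MLK)
open Cfsg.Agent.MinSimple.VModule (oddGen oddGen_le)

universe u

variable {G : Type u} [Group G]

/-- **(SH)** for the seed `Z`: `⟨Z^L⟩ = E₁^k`, `k ≥ 2`, as an `S`-module, the summands irreducible under `P` and not
centralised by `O²(P)`. -/
def SHZ (S Z L P : Subgroup G) : Prop :=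
  ∃ (k : ℕ) (E : Fin k → Subgroup G), 2 ≤ k ∧ iSupIndep E ∧ (⨆ j, E j) = cl Z L ∧
    (∀ j, P ≤ normalizer (E j : Set G)) ∧
    (∀ j, ∀ A : Subgroup G, A ≤ E j → P ≤ normalizer (A : Set G) → A = ⊥ ∨ A = E j) ∧
    (∀ j, ¬ E j ≤ centralizer (oddGen P : Set G)) ∧
    ∀ i j, ∃ f : E i ≃* E j, ∀ s ∈ S, ∀ v w : E i, (w : G) = s * v * s⁻¹ → (f w : G) = s * f v * s⁻¹

variable [Finite G] {S : Sylow 2 G} {Z L P : Subgroup G}

section

variable (h : Stage S Z L) (hc : IsCharacteristicTwoType G)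
include h hc

/-- conjugates of `⟨Z^L⟩` which meet commute -/
theorem Stage.hz : GeoOf.HZ (cl Z L) := by
  intro a b hab
  have l := h.lines hc
  have hV := h.cl_le_V
  have h1 : cj a (VL (S : Subgroup G) Z L) ⊓ cj b (VL (S : Subgroup G) Z L) ≠ ⊥ := fun h0 => hab (by
    rw [eq_bot_iff, ← h0]
    exact inf_le_inf (cj_mono _ hV) (cj_mono _ hV))
  exact ((cj_mono _ hV).trans (l.comm_of_inter (l.char2 hc) h1)).trans (centralizer_le (cj_mono _ hV))

/-- **`(L, ⟨Z^L⟩)` is a pair for #19499.** -/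
theorem Stage.geo (fixY : ∀ w ∈ zc (S : Subgroup G), (∀ y ∈ centralizer (cl Z L : Set G), y * w = w * y) → w ∈ Z)
    (hn : NonLoc L (centralizer (Z : Set G))) :
    Geo (S : Subgroup G) Z (cl Z L) L :=
  GeoOf.geo_of h.Zc h.Zne (le_cl _ _) h.le (le_normalizer_cl _ _) h.sq h.low (h.hz hc)
    (fun w hw _ hY => fixY w hw hY) hn

omit hc in
/-- good sets for all closed points of `⟨Z^L⟩` -/
theorem Stage.good_of_shz (hSyl : Syl (S : Subgroup G) P) (hmin : IsMinPar (S : Subgroup G) P)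
    (hP : o2 P ≤ centralizer (cl Z L : Set G))
    (sh : SHZ (S : Subgroup G) Z L P) (D : Subgroup G) (hD : Clo (S : Subgroup G) Z (cl Z L) D)
    (hne : D ≠ cl Z L) : ∃ lam T₀, GoodAt ((S : Subgroup G) ⊓ centralizer (D : Set G)) (cl Z L) D lam T₀ := by
  obtain ⟨k, U, hk, hind, hsup, hPU, irr, hO, iso⟩ := sh
  let i₀ : Fin k := ⟨0, by omega⟩
  choose f hf using fun j => iso i₀ j
  refine ClosedPow.exists_good_of_par (ι := Fin k) (S := (S : Subgroup G)) (P := P) FFBr.aStmt i₀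
    (by rw [Nat.card_eq_fintype_card, Fintype.card_fin]; exact hk) hSyl hmin
    (fun j => hSyl.1.trans (hPU j)) h.comm (fun v hv => by rw [← pow_two]; exact h.sq v hv) hind hsup f
    (fun j s hs u u' he => hf j s hs u u' he) (h.cl_le_S.trans hSyl.1) (hPU i₀) (irr i₀) (hO i₀) hP hne ?_
  · intro w
    refine ⟨fun hw => ⟨hD.DV hw, fun t ht => mem_centralizer_iff.1 ht.2 w hw |>.symm⟩, fun hw => hD.clo w hw.1 hw.2⟩

/-- **#19499 at one end.** -/
theorem Stage.exists_out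
    (fixY : ∀ w ∈ zc (S : Subgroup G), (∀ y ∈ centralizer (cl Z L : Set G), y * w = w * y) → w ∈ Z)
    (hn : NonLoc L (centralizer (Z : Set G))) (hSyl : Syl (S : Subgroup G) P) (hmin : IsMinPar (S : Subgroup G) P)
    (hP : o2 P ≤ centralizer (cl Z L : Set G))
    (sh : SHZ (S : Subgroup G) Z L P) (ml : MLK.{u, u}) (hK : IsKGroup (centralizer (Z : Set G))) :
    ∃ (D B : Subgroup G) (e : End (S : Subgroup G) Z (cl Z L) D B) (lam T₀ : Subgroup G), Out e lam T₀ :=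
  (h.geo hc fixY hn).exists_out ml hK (h.good_of_shz hSyl hmin hP sh)

end

end Cfsg.Agent.Omega.NO3b.ZP
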